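import Groth.Agent.StrictLocLib.SetsBC
import Groth.Agent.BCVertLib.Sets
import Mathlib.CategoryTheory.Limits.Types.Equalizers

/-!
# Elements of stalks of sheaves of sets: inverse images, direct images and their compatibilities
-/

set_option autoImplicit false
set_option linter.unusedSectionVars false
set_option linter.style.haveILetI false
set_option backward.isDefEq.respectTransparency false
set_option backward.isDefEq.respectTransparency.types false
set_option maxHeartbeats 1000000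

universe u

open CategoryTheory CategoryTheory.Limits AlgebraicGeometry Opposite
open Groth.Agent.EtPtsLib Groth.Agent.EtLimLib Groth.Agent.BCVertLib

noncomputable section

namespace Groth.Agent.DescentStalkLib

variable {X Y Z : Scheme.{u}} {Ω : Type u} [Field Ω] [IsAlgClosed Ω]

/-- The stalk of a sheaf of sets at a geometric point. -/
abbrev St (ζ : Spec (CommRingCat.of Ω) ⟶ X) (G : EtDesc.Sh X) : Type (u + 1) :=
  ToType ((Scheme.pointSmallEtale ζ).presheafFiber.obj G.obj)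

/-- The map of stalks of a map of sheaves. -/
abbrev stMap (ζ : Spec (CommRingCat.of Ω) ⟶ X) {G H : EtDesc.Sh X} (a : G ⟶ H) : St ζ G → St ζ H :=
  (Scheme.pointSmallEtale ζ).presheafFiber.map a.hom

/-- The germ of a section. -/
abbrev germ (ζ : Spec (CommRingCat.of Ω) ⟶ X) (G : EtDesc.Sh X) (U : X.Etale)
    (l : (Scheme.pointSmallEtale ζ).fiber.obj U) (s : EtDesc.sect G U) : St ζ G :=
  (Scheme.pointSmallEtale ζ).toPresheafFiber U l G.obj s

theorem exists_germ {ζ : Spec (CommRingCat.of Ω) ⟶ X} {G : EtDesc.Sh X} (x : St ζ G) :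
    ∃ (U : X.Etale) (l : (Scheme.pointSmallEtale ζ).fiber.obj U) (s : EtDesc.sect G U), germ ζ G U l s = x :=
  (Scheme.pointSmallEtale ζ).toPresheafFiber_jointly_surjective (P := G.obj) x

theorem stMap_germ (ζ : Spec (CommRingCat.of Ω) ⟶ X) {G H : EtDesc.Sh X} (a : G ⟶ H) (U : X.Etale)
    (l : (Scheme.pointSmallEtale ζ).fiber.obj U) (s : EtDesc.sect G U) :
    stMap ζ a (germ ζ G U l s) = germ ζ H U l (a.hom.app (op U) s) :=
  (Scheme.pointSmallEtale ζ).toPresheafFiber_naturality_apply a.hom U l s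

theorem germ_res (ζ : Spec (CommRingCat.of Ω) ⟶ X) (G : EtDesc.Sh X) {U V : X.Etale} (i : V ⟶ U)
    (l : (Scheme.pointSmallEtale ζ).fiber.obj V) (s : EtDesc.sect G U) :
    germ ζ G V l (G.obj.map i.op s) = germ ζ G U ((Scheme.pointSmallEtale ζ).fiber.map i l) s :=
  (Scheme.pointSmallEtale ζ).toPresheafFiber_w_apply i l G.obj s

theorem stMap_comp (ζ : Spec (CommRingCat.of Ω) ⟶ X) {G H K : EtDesc.Sh X} (a : G ⟶ H) (b : H ⟶ K) (x : St ζ G) :
    stMap ζ (a ≫ b) x = stMap ζ b (stMap ζ a x) := by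
  obtain ⟨U, l, s, rfl⟩ := exists_germ x
  simp only [stMap_germ]
  rfl

theorem stMap_id (ζ : Spec (CommRingCat.of Ω) ⟶ X) {G : EtDesc.Sh X} (x : St ζ G) : stMap ζ (𝟙 G) x = x := by
  obtain ⟨U, l, s, rfl⟩ := exists_germ x
  rw [stMap_germ]
  rfl

theorem bijective_stMap_iso (ζ : Spec (CommRingCat.of Ω) ⟶ X) {G H : EtDesc.Sh X} (e : G ≅ H) :
    Function.Bijective (stMap ζ e.hom) :=
  Function.bijective_iff_has_inverse.2 ⟨stMap ζ e.inv,
    fun x => by rw [← stMap_comp, e.hom_inv_id, stMap_id],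
    fun x => by rw [← stMap_comp, e.inv_hom_id, stMap_id]⟩

/-- Maps of sheaves which agree on all stalks at the standard geometric points are equal. -/
theorem hom_ext_st {G H : EtDesc.Sh X} (a b : G ⟶ H)
    (h : ∀ (x : X) (z : St (geomPtAlg x) G), stMap (geomPtAlg x) a z = stMap (geomPtAlg x) b z) : a = b := by
  haveI : AB5OfSize.{u, u} (Type (u + 1)) := AB5OfSize_of_univLE.{u, u, u + 1, u + 1} _
  haveI : IsIso (equalizer.ι a b) := isIso_of_alg_sh _ fun x => by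
    let Φ := (Scheme.pointSmallEtale (geomPtAlg x)).sheafFiber (A := Type (u + 1))
    have hl := isLimitForkMapOfIsLimit Φ (equalizer.condition a b) (equalizerIsEqualizer a b)
    have hu := (Types.type_equalizer_iff_unique _ _).1 ⟨hl⟩
    refine ⟨fun s t e => ?_, fun z => ?_⟩
    · obtain ⟨r, -, hr⟩ := hu (Φ.map (equalizer.ι a b) s) (h x _)
      exact (hr s rfl).trans (hr t e.symm).symm
    · obtain ⟨r, hr, -⟩ := hu z (h x z)
      exact ⟨r, hr⟩
  exact eq_of_epi_equalizer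

/-- Transport of stalks along equalities of points. -/
def tr {ζ ζ' : Spec (CommRingCat.of Ω) ⟶ X} (e : ζ = ζ') {G : EtDesc.Sh X} (x : St ζ G) : St ζ' G := e ▸ x

@[simp]
theorem tr_rfl {ζ : Spec (CommRingCat.of Ω) ⟶ X} {G : EtDesc.Sh X} (e : ζ = ζ) (x : St ζ G) : tr e x = x := rfl

@[simp]
theorem tr_tr {ζ ζ' ζ'' : Spec (CommRingCat.of Ω) ⟶ X} (e : ζ = ζ') (e' : ζ' = ζ'') {G : EtDesc.Sh X}
    (x : St ζ G) : tr e' (tr e x) = tr (e.trans e') x := by
  subst e; subst e'; rfl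

theorem stMap_tr {ζ ζ' : Spec (CommRingCat.of Ω) ⟶ X} (e : ζ = ζ') {G H : EtDesc.Sh X} (a : G ⟶ H) (x : St ζ G) :
    stMap ζ' a (tr e x) = tr e (stMap ζ a x) := by
  subst e; rfl

theorem tr_germ {ζ ζ' : Spec (CommRingCat.of Ω) ⟶ X} (e : ζ = ζ') (G : EtDesc.Sh X) (U : X.Etale)
    (l : (Scheme.pointSmallEtale ζ).fiber.obj U) (l' : (Scheme.pointSmallEtale ζ').fiber.obj U)
    (hl : liftHom ζ' l' = liftHom ζ l) (s : EtDesc.sect G U) : tr e (germ ζ G U l s) = germ ζ' G U l' s := by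
  subst e
  rw [show l' = l from Over.OverMorphism.ext hl]
  rfl

/-- A lift transported along an equality of points. -/
def trLift {ζ ζ' : Spec (CommRingCat.of Ω) ⟶ X} (e : ζ = ζ') {U : X.Etale}
    (l : (Scheme.pointSmallEtale ζ).fiber.obj U) : (Scheme.pointSmallEtale ζ').fiber.obj U :=
  Over.homMk (liftHom ζ l) ((liftHom_comp ζ l).trans e)

theorem tr_germ' {ζ ζ' : Spec (CommRingCat.of Ω) ⟶ X} (e : ζ = ζ') (G : EtDesc.Sh X) (U : X.Etale)
    (l : (Scheme.pointSmallEtale ζ).fiber.obj U) (s : EtDesc.sect G U) :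
    tr e (germ ζ G U l s) = germ ζ' G U (trLift e l) s :=
  tr_germ e G U l _ rfl s

section Us

variable (g : Y ⟶ X)

/-- The stalk at the image point is the stalk of the inverse image. -/
def us (ζ : Spec (CommRingCat.of Ω) ⟶ Y) (G : EtDesc.Sh X) : St (ζ ≫ g) G → St ζ ((EtDesc.pullSh g).obj G) :=
  unitStalk g ζ G

theorem us_germ (ζ : Spec (CommRingCat.of Ω) ⟶ Y) (G : EtDesc.Sh X) (U : X.Etale)
    (l : (Scheme.pointSmallEtale (ζ ≫ g)).fiber.obj U) (s : EtDesc.sect G U) :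
    us g ζ G (germ (ζ ≫ g) G U l s) = germ ζ ((EtDesc.pullSh g).obj G) ((EtCoh.bc g).obj U) (liftBc g ζ U l)
      (((EtDesc.adjSh g).unit.app G).hom.app (op U) s) :=
  StrictLocLib.unitStalk_germ g ζ G U l s

theorem bijective_us (ζ : Spec (CommRingCat.of Ω) ⟶ Y) (G : EtDesc.Sh X) : Function.Bijective (us g ζ G) :=
  bijective_unitStalk g ζ G

theorem us_natural (ζ : Spec (CommRingCat.of Ω) ⟶ Y) {G H : EtDesc.Sh X} (a : G ⟶ H) (x : St (ζ ≫ g) G) :
    stMap ζ ((EtDesc.pullSh g).map a) (us g ζ G x) = us g ζ H (stMap (ζ ≫ g) a x) := by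
  obtain ⟨U, l, s, rfl⟩ := exists_germ x
  rw [us_germ, stMap_germ, stMap_germ, us_germ]
  refine congrArg (germ ζ _ _ _) ?_
  exact congr((($((EtDesc.adjSh g).unit.naturality a))).hom.app (op U) s).symm

theorem us_tr {ζ ζ' : Spec (CommRingCat.of Ω) ⟶ Y} (e : ζ = ζ') (G : EtDesc.Sh X) (x : St (ζ ≫ g) G) :
    us g ζ' G (tr (congrArg (· ≫ g) e) x) = tr e (us g ζ G x) := by
  subst e; rfl

end Us

section Ev

variable (f : Y ⟶ X)

/-- Evaluation of the stalk of a direct image at a point of the fibre. -/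
def ev (η : Spec (CommRingCat.of Ω) ⟶ X) (ζ : EtaleSplit.GPts f η) (G : EtDesc.Sh Y) :
    St η ((EtDesc.pushSh f).obj G) → St ζ.1 G :=
  pushStalkAt f η ζ G.obj

theorem ev_germ (η : Spec (CommRingCat.of Ω) ⟶ X) (ζ : EtaleSplit.GPts f η) (G : EtDesc.Sh Y) (U : X.Etale)
    (l : (Scheme.pointSmallEtale η).fiber.obj U) (s : EtDesc.sect G ((EtCoh.bc f).obj U)) :
    ev f η ζ G (germ η ((EtDesc.pushSh f).obj G) U l s) = germ ζ.1 G _ (liftBcAt f η ζ U l) s :=
  pushStalkAt_germ f η ζ G.obj U l s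

theorem ev_natural (η : Spec (CommRingCat.of Ω) ⟶ X) (ζ : EtaleSplit.GPts f η) {G H : EtDesc.Sh Y} (a : G ⟶ H)
    (x : St η ((EtDesc.pushSh f).obj G)) :
    ev f η ζ H (stMap η ((EtDesc.pushSh f).map a) x) = stMap ζ.1 a (ev f η ζ G x) := by
  obtain ⟨U, l, s, rfl⟩ := exists_germ x
  rw [stMap_germ, ev_germ, ev_germ, stMap_germ]
  rfl

theorem ev_tr {η η' : Spec (CommRingCat.of Ω) ⟶ X} (e : η = η') (ζ : Spec (CommRingCat.of Ω) ⟶ Y)
    (h : ζ ≫ f = η) (G : EtDesc.Sh Y) (x : St η ((EtDesc.pushSh f).obj G)) :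
    ev f η' ⟨ζ, h.trans e⟩ G (tr e x) = ev f η ⟨ζ, h⟩ G x := by
  subst e; rfl

theorem ev_eq {η : Spec (CommRingCat.of Ω) ⟶ X} {ζ ζ' : EtaleSplit.GPts f η} (e : ζ.1 = ζ'.1) (G : EtDesc.Sh Y)
    (x : St η ((EtDesc.pushSh f).obj G)) : tr e (ev f η ζ G x) = ev f η ζ' G x := by
  obtain ⟨ζ, hζ⟩ := ζ
  obtain ⟨ζ', hζ'⟩ := ζ'
  change ζ = ζ' at e
  subst e
  rfl

/-- Transposition on stalks. -/
theorem stMap_transpose {G : EtDesc.Sh X} {H : EtDesc.Sh Y} (α : G ⟶ (EtDesc.pushSh f).obj H)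
    (η : Spec (CommRingCat.of Ω) ⟶ X) (ζ : EtaleSplit.GPts f η) (x : St η G) :
    stMap ζ.1 (((EtDesc.adjSh f).homEquiv _ _).symm α) (us f ζ.1 G (tr ζ.2.symm x)) =
      ev f η ζ H (stMap η α x) := by
  obtain ⟨U, l, s, rfl⟩ := exists_germ x
  rw [tr_germ', us_germ, stMap_germ, stMap_germ, ev_germ]
  have e : (EtDesc.adjSh f).unit.app G ≫ (EtDesc.pushSh f).map (((EtDesc.adjSh f).homEquiv _ _).symm α) = α :=
    ((EtDesc.adjSh f).homEquiv_unit _ _ _).symm.trans (Equiv.apply_symm_apply _ _)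
  have e' := congr((($e)).hom.app (op U) s)
  refine (congrArg (germ ζ.1 H _ _) e').trans ?_
  congr 1

end Ev

section Theta

variable (f : Y ⟶ X) (g : Z ⟶ Y) (h : Z ⟶ X) (w : g ≫ f = h)

/-- From the direct image to the direct image of the inverse image along a morphism over the base. -/
def theta (G : EtDesc.Sh Y) : (EtDesc.pushSh f).obj G ⟶ (EtDesc.pushSh h).obj ((EtDesc.pullSh g).obj G) :=
  (EtDesc.pushSh f).map ((EtDesc.adjSh g).unit.app G) ≫ pushJoinSh f g h w ((EtDesc.pullSh g).obj G)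

theorem ev_theta (G : EtDesc.Sh Y) (η : Spec (CommRingCat.of Ω) ⟶ X) (ω : EtaleSplit.GPts h η)
    (x : St η ((EtDesc.pushSh f).obj G)) :
    ev h η ω _ (stMap η (theta f g h w G) x) =
      us g ω.1 G (ev f η ⟨ω.1 ≫ g, by rw [Category.assoc, w, ω.2]⟩ G x) := by
  obtain ⟨U, l, s, rfl⟩ := exists_germ x
  rw [stMap_germ, ev_germ, ev_germ, us_germ]
  refine (germ_res ω.1 _ (bcSpInv f g h w U) (liftBcAt h η ω U l)
    (((EtDesc.adjSh g).unit.app G).hom.app (op ((EtCoh.bc f).obj U)) s)).trans ?_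
  refine congrArg (fun m => germ ω.1 ((EtDesc.pullSh g).obj G) _ m
    (((EtDesc.adjSh g).unit.app G).hom.app (op ((EtCoh.bc f).obj U)) s)) ?_
  refine fiber_bc_ext g ω.1 ?_
  rw [liftHom_map, liftHom_liftBc_fst, Category.assoc]
  refine (congrArg (liftHom ω.1 _ ≫ ·) (bcSpInv_fst f g h w U)).trans ?_
  refine pullback.hom_ext ?_ ?_
  · rw [Category.assoc, pullback.lift_fst]
    exact (liftHom_liftBcAt_fst h η ω U l).trans (liftHom_liftBcAt_fst f η ⟨ω.1 ≫ g, _⟩ U l).symm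
  · rw [Category.assoc, pullback.lift_snd, ← Category.assoc]
    exact (congrArg (· ≫ g) (liftHom_comp ω.1 _)).trans
      (liftHom_comp (X := Y) (U := (EtCoh.bc f).obj U) (ω.1 ≫ g) _).symm

end Theta

section Via

variable {T S : Scheme.{u}} (g : T ⟶ S) (a : S ⟶ X) (b : T ⟶ X) (w : g ≫ a = b)

theorem stMap_pullVia (F : EtDesc.Sh X) (ζ : Spec (CommRingCat.of Ω) ⟶ T) (x : St ((ζ ≫ g) ≫ a) F) :
    stMap ζ (EtDesc.pullVia g a b w F).hom (us g ζ _ (us a (ζ ≫ g) F x)) =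
      us b ζ F (tr (by rw [Category.assoc, w]) x) := by
  subst w
  let adjL := ((EtDesc.adjSh a).comp (EtDesc.adjSh g)).ofNatIsoRight (EtDesc.pushCompSh a g)
  let P := (EtDesc.pullCompSh g a).app F
  have hP : (EtDesc.pullVia g a (g ≫ a) rfl F).hom = P.inv := by
    simp [EtDesc.pullVia, EtDesc.pullCongrSh, P]
  apply (bijective_stMap_iso ζ P).1
  rw [hP, ← stMap_comp, P.inv_hom_id]
  refine (stMap_id ζ _).trans ?_
  obtain ⟨U, l, s, rfl⟩ := exists_germ x
  rw [tr_germ', us_germ, us_germ, us_germ, stMap_germ]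
  have hu : (EtDesc.adjSh (g ≫ a)).unit.app F ≫ (EtDesc.pushSh (g ≫ a)).map P.hom =
      (EtDesc.adjSh a).unit.app F ≫ (EtDesc.pushSh a).map ((EtDesc.adjSh g).unit.app ((EtDesc.pullSh a).obj F)) ≫
        pushJoinSh a g (g ≫ a) rfl _ := by
    rw [← pushCompSh_hom_eq]
    refine (Adjunction.unit_leftAdjointUniq_hom_app (EtDesc.adjSh (g ≫ a)) adjL F).trans ?_
    simp only [adjL, Adjunction.ofNatIsoRight, Adjunction.comp]
    simp
  refine Eq.symm ((congrArg (germ ζ ((EtDesc.pullSh g).obj ((EtDesc.pullSh a).obj F)) ((EtCoh.bc (g ≫ a)).obj U) _)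
    congr((($hu)).hom.app (op U) s)).trans ?_)
  refine (germ_res ζ ((EtDesc.pullSh g).obj ((EtDesc.pullSh a).obj F)) (bcSpInv a g (g ≫ a) rfl U) _ _).trans ?_
  refine congrArg (fun m => germ ζ ((EtDesc.pullSh g).obj ((EtDesc.pullSh a).obj F)) _ m _) ?_
  refine fiber_bc_ext g ζ ?_
  rw [liftHom_map, Category.assoc, liftHom_liftBc_fst]
  refine (congrArg (liftHom ζ _ ≫ ·) (bcSpInv_fst a g (g ≫ a) rfl U)).trans ?_
  refine pullback.hom_ext ?_ ?_
  · rw [Category.assoc, pullback.lift_fst]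
    exact (liftHom_liftBc_fst (g ≫ a) ζ U _).trans (liftHom_liftBc_fst a (ζ ≫ g) U l).symm
  · rw [Category.assoc, pullback.lift_snd, ← Category.assoc]
    exact (congrArg (· ≫ g) (liftHom_comp ζ _)).trans
      (liftHom_comp (X := S) (U := (EtCoh.bc a).obj U) (ζ ≫ g) _).symm

end Via

end Groth.Agent.DescentStalkLib
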