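import Groth.Agent.DescentStalkLib.Core
import Groth.Agent.StrictLocLib.ProperBC
import Mathlib.AlgebraicGeometry.AlgClosed.Basic

/-!
# Detection of germs of direct images on geometric fibres, for integral and for proper morphisms
-/

set_option autoImplicit false
set_option linter.unusedSectionVars false
set_option linter.style.haveILetI false
set_option backward.isDefEq.respectTransparency false
set_option backward.isDefEq.respectTransparency.types false
set_option maxHeartbeats 1000000

universe u

open CategoryTheory CategoryTheory.Limits AlgebraicGeometry Opposite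
open Groth.Agent.EtPtsLib

noncomputable section

namespace Groth.Agent.DescentStalkLib

variable {X Y : Scheme.{u}} (f : Y ⟶ X) {Ω : Type u} [Field Ω] [IsAlgClosed Ω]

theorem isSheaf_type (G : EtDesc.Sh Y) : Presieve.IsSheaf Y.smallEtaleTopology (G.obj ⋙ forget (Type (u + 1))) :=
  (isSheaf_iff_isSheaf_of_type _ _).1 G.property

theorem ext_of_integral [IsIntegralHom f] (η : Spec (CommRingCat.of Ω) ⟶ X) (G : EtDesc.Sh Y)
    (x y : St η ((EtDesc.pushSh f).obj G)) (h : ∀ ζ, ev f η ζ G x = ev f η ζ G y) : x = y :=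
  stalk_ext f η G.obj (isSheaf_type G) h

theorem mem_of_closed_points [LocallyOfFiniteType f] (η : Spec (CommRingCat.of Ω) ⟶ X)
    (T : Set ↥(pullback f η)) (hT : IsOpen T) (h : ∀ ζ : EtaleSplit.GPts f η, gptPoint f η ζ ∈ T)
    (p : ↥(pullback f η)) : p ∈ T := by
  haveI : JacobsonSpace ↥(pullback f η) := LocallyOfFiniteType.jacobsonSpace (pullback.snd f η)
  by_contra hp
  obtain ⟨q, hqT, hq⟩ := nonempty_inter_closedPoints (Z := Tᶜ) ⟨p, hp⟩ hT.isClosed_compl.isLocallyClosed
  refine hqT ?_
  let σ := pointOfClosedPoint (pullback.snd f η) q hq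
  have hσ : σ ≫ pullback.snd f η = 𝟙 _ := pointOfClosedPoint_comp _ q hq
  have h0 := h ⟨σ ≫ pullback.fst f η, by rw [Category.assoc, pullback.condition, reassoc_of% hσ]⟩
  rw [gptPoint, show pullback.lift (σ ≫ pullback.fst f η) (𝟙 _) (by
      rw [Category.assoc, pullback.condition, reassoc_of% hσ, Category.id_comp]) = σ from
    pullback.hom_ext (pullback.lift_fst _ _ _) ((pullback.lift_snd _ _ _).trans hσ.symm)] at h0
  rwa [show EtaleSplit.pt σ = q from pointOfClosedPoint_apply _ q hq _] at h0

theorem ext_of_proper [IsProper f] (η : Spec (CommRingCat.of Ω) ⟶ X) (G : EtDesc.Sh Y)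
    (x y : St η ((EtDesc.pushSh f).obj G)) (h : ∀ ζ, ev f η ζ G x = ev f η ζ G y) : x = y := by
  obtain ⟨U, l, s, t, rfl, rfl⟩ :=
    (Scheme.pointSmallEtale η).toPresheafFiber_jointly_surjective₂ (P := ((EtDesc.pushSh f).obj G).obj) x y
  let B := (EtCoh.bc f).obj U
  have hAg : IsOpen (agree G.obj (U := B) s t) := isOpen_agree _ _ _
  have hfib : ∀ p, fibreMap f η U l p ∈ agree G.obj (U := B) s t :=
    mem_of_closed_points f η ((fibreMap f η U l) ⁻¹' agree G.obj (U := B) s t)
      (hAg.preimage (Scheme.Hom.continuous _)) fun ζ => by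
      show fibreMap f η U l (gptPoint f η ζ) ∈ agree G.obj (U := B) s t
      rw [fibreMap_gptPoint]
      have hζ := h ζ
      rw [ev_germ, ev_germ] at hζ
      exact (germ_eq_iff_mem_agree ζ.1 G.obj _ s t).1 hζ
  haveI : UniversallyClosed (pullback.fst U.hom f) := inferInstance
  let O : U.left.Opens := ⟨(bcFst f U '' (agree G.obj (U := B) s t)ᶜ)ᶜ,
    ((pullback.fst U.hom f).isClosedMap _ hAg.isClosed_compl).isOpen_compl⟩
  have hl : liftHom η l default ∈ O := by
    rintro ⟨z, hz, hzl⟩
    obtain ⟨p, rfl⟩ := mem_range_fibreMap f η U l z hzl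
    exact hz (hfib p)
  obtain ⟨lO, hlO⟩ := exists_fiber_map_eq η (openIncl U O) l (⟨_, hl⟩ : O.toScheme) rfl
  refine ((Scheme.pointSmallEtale η).toPresheafFiber_eq_iff' (P := ((EtDesc.pushSh f).obj G).obj) U l s t).2
    ⟨_, openIncl U O, lO, hlO, ?_⟩
  refine sect_eq_of_cover G ((EtCoh.bc f).obj (openSub U O)) _ _ fun z => ?_
  let o := (EtCoh.bc f).map (openIncl U O)
  have hz : o.left z ∈ agree G.obj (U := B) s t := by
    by_contra hn
    have e : bcFst f U (o.left z) = O.ι (bcFst f (openSub U O) z) :=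
      congrArg (fun m => m z) (bcFst_map f (openIncl U O))
    exact (bcFst f (openSub U O) z : O.toScheme).2 ⟨_, hn, e⟩
  obtain ⟨W, hW⟩ := Set.mem_iUnion.1 hz
  obtain ⟨g, hg⟩ := Set.mem_iUnion.1 hW
  obtain ⟨hst, v, hv⟩ := Set.mem_iUnion.1 hg
  haveI : IsOpenImmersion o.left :=
    MorphismProperty.of_isPullback (EtCoh.isPullback_bc_map f (openIncl U O)).flip (inferInstance : IsOpenImmersion O.ι)
  let W' : W.left.Opens := g.left ⁻¹ᵁ o.left.opensRange
  have hr : Set.range (W'.ι ≫ g.left) ⊆ Set.range o.left := by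
    rintro _ ⟨w, rfl⟩
    exact w.2
  let c : openSub W W' ⟶ (EtCoh.bc f).obj (openSub U O) := MorphismProperty.Over.homMk
    (IsOpenImmersion.lift o.left (W'.ι ≫ g.left) hr) (by
      rw [← MorphismProperty.Over.w o, IsOpenImmersion.lift_fac_assoc, Category.assoc, MorphismProperty.Over.w g]
      rfl)
  have hc : c ≫ o = openIncl W W' ≫ g := MorphismProperty.Over.Hom.ext (IsOpenImmersion.lift_fac _ _ _)
  refine ⟨_, c, (⟨v, ⟨z, hv.symm⟩⟩ : W'.toScheme), ?_, ?_⟩
  · refine o.left.isOpenEmbedding.injective ?_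
    change o.left (IsOpenImmersion.lift o.left (W'.ι ≫ g.left) hr _) = _
    rw [← Scheme.Hom.comp_apply, IsOpenImmersion.lift_fac]
    exact hv
  · change G.obj.map c.op (G.obj.map o.op s) = G.obj.map c.op (G.obj.map o.op t)
    rw [← Functor.map_comp_apply, ← Functor.map_comp_apply, ← op_comp, hc, op_comp, Functor.map_comp_apply,
      Functor.map_comp_apply, hst]

variable {X' S : Scheme.{u}} (p : X' ⟶ S) {F' : EtDesc.Sh X'}
  (φ : (EtDesc.pullSh (pullback.fst p p)).obj F' ≅ (EtDesc.pullSh (pullback.snd p p)).obj F')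

theorem isEffective_integral [IsIntegralHom p] (hφ : EtDesc.IsCocycle F' φ) : EtDesc.IsEffective p F' φ := by
  haveI : IsIntegralHom (pullback.fst p p ≫ p) := inferInstance
  exact isEffective p φ hφ (fun η G x y h => ext_of_integral p η G x y h)
    (fun η G x y h => ext_of_integral _ η G x y h)
    fun G => EtPtsLib.isIso_baseChange0Sh p p (pullback.fst p p) (pullback.snd p p)
      (IsPullback.of_hasPullback p p).flip G

theorem isEffective_proper [IsProper p] (hφ : EtDesc.IsCocycle F' φ) : EtDesc.IsEffective p F' φ := by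
  haveI : IsProper (pullback.fst p p ≫ p) := inferInstance
  exact isEffective p φ hφ (fun η G x y h => ext_of_proper p η G x y h)
    (fun η G x y h => ext_of_proper _ η G x y h)
    fun G => StrictLocLib.isIso_baseChange0Sh_of_ab p p (pullback.fst p p) (pullback.snd p p)
      (IsPullback.of_hasPullback p p).flip G
      (StrictLocLib.isIso_baseChange0_proper p p (pullback.fst p p) (pullback.snd p p)
        (IsPullback.of_hasPullback p p).flip _)

end Groth.Agent.DescentStalkLib
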