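import Groth.Agent.DescentStalkLib.Factor
import Groth.Agent.ZeroAcycLib.Discrete

/-!
# Universal effective descent from affine charts mapping onto opens of the base
-/

set_option autoImplicit false
set_option linter.unusedSectionVars false
set_option linter.style.haveILetI false
set_option backward.isDefEq.respectTransparency false
set_option backward.isDefEq.respectTransparency.types false
set_option maxHeartbeats 1000000

universe u

open CategoryTheory CategoryTheory.Limits AlgebraicGeometry Opposite MorphismProperty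

noncomputable section

namespace Groth.Agent.DescentStalkLib

/-- Affine opens of the source mapping onto a covering of the base by separated opens. -/
structure OntoCharts {X Y : Scheme.{u}} (g : X ⟶ Y) where
  /-- The index set. -/
  I : Type u
  /-- The opens of the source. -/
  W : I → X.Opens
  /-- The opens of the base. -/
  O : I → Y.Opens
  affine : ∀ i, IsAffineOpen (W i)
  separated : ∀ i, (O i).toScheme.IsSeparated
  le : ∀ i, W i ≤ g ⁻¹ᵁ O i
  onto : ∀ i, ∀ y ∈ O i, ∃ x ∈ W i, g x = y
  cover : ∀ y, ∃ i, y ∈ O i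

variable {X Y : Scheme.{u}} {g : X ⟶ Y} (C : OntoCharts g)

/-- The charts of the source. -/
abbrev OntoCharts.src : Scheme.{u} := ∐ fun i => (C.W i).toScheme

/-- The charts of the base. -/
abbrev OntoCharts.tgt : Scheme.{u} := ∐ fun i => (C.O i).toScheme

/-- The charts of the source in the source. -/
def OntoCharts.toSrc : C.src ⟶ X := Sigma.desc fun i => (C.W i).ι

/-- The charts of the base in the base. -/
def OntoCharts.toTgt : C.tgt ⟶ Y := Sigma.desc fun i => (C.O i).ι

/-- The map of charts. -/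
def OntoCharts.hom : C.src ⟶ C.tgt :=
  Sigma.desc fun i => g.resLE (C.O i) (C.W i) (C.le i) ≫ Sigma.ι (fun i => (C.O i).toScheme) i

theorem OntoCharts.fac : C.toSrc ≫ g = C.hom ≫ C.toTgt :=
  Sigma.hom_ext _ _ fun i => by simp [OntoCharts.toSrc, OntoCharts.toTgt, OntoCharts.hom]

theorem OntoCharts.ι_hom (i : C.I) :
    Sigma.ι (fun i => (C.W i).toScheme) i ≫ C.hom =
      g.resLE (C.O i) (C.W i) (C.le i) ≫ Sigma.ι (fun i => (C.O i).toScheme) i :=
  Sigma.ι_desc _ _

theorem OntoCharts.isPullback (i : C.I) :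
    IsPullback (g.resLE (C.O i) (C.W i) (C.le i)) (Sigma.ι (fun i => (C.W i).toScheme) i)
      (Sigma.ι (fun i => (C.O i).toScheme) i) C.hom := by
  refine IsOpenImmersion.isPullback _ _ _ _ (C.ι_hom i) (TopologicalSpace.Opens.ext (Set.ext fun z => ?_))
  obtain ⟨⟨j, x⟩, rfl⟩ := (sigmaMk fun i => (C.W i).toScheme).surjective z
  rw [sigmaMk_mk]
  have e : C.hom (Sigma.ι (fun i => (C.W i).toScheme) j x) =
      Sigma.ι (fun i => (C.O i).toScheme) j (g.resLE (C.O j) (C.W j) (C.le j) x) := by
    rw [← Scheme.Hom.comp_apply, C.ι_hom j, Scheme.Hom.comp_apply]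
  constructor
  · rintro ⟨y, hy⟩
    rw [e] at hy
    obtain rfl : i = j := congrArg Sigma.fst ((sigmaι_eq_iff _ _ _ _ _).1 hy)
    exact ⟨x, rfl⟩
  · rintro ⟨y, hy⟩
    obtain rfl : i = j := congrArg Sigma.fst ((sigmaι_eq_iff _ _ _ _ _).1 hy)
    exact ⟨_, e.symm⟩

theorem OntoCharts.of_components (P : MorphismProperty Scheme.{u}) [IsZariskiLocalAtTarget P]
    (h : ∀ i, P (g.resLE (C.O i) (C.W i) (C.le i))) : P C.hom := by
  refine IsZariskiLocalAtTarget.of_openCover (sigmaOpenCover fun i => (C.O i).toScheme) fun i => ?_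
  have e := h i
  rw [← (C.isPullback i).flip.isoPullback_hom_snd] at e
  exact (P.cancel_left_of_respectsIso (C.isPullback i).flip.isoPullback.hom _).1 e

theorem OntoCharts.quasiCompact : QuasiCompact C.hom := C.of_components @QuasiCompact fun i => by
  haveI : IsAffine (C.W i).toScheme := C.affine i
  haveI := C.separated i
  infer_instance

theorem OntoCharts.quasiSeparated : QuasiSeparated C.hom := C.of_components @QuasiSeparated fun i => by
  haveI : IsAffine (C.W i).toScheme := C.affine i
  haveI := C.separated i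
  infer_instance

theorem OntoCharts.surjective : Surjective C.hom := C.of_components @Surjective fun i => ⟨fun y => by
  obtain ⟨x, hx, e⟩ := C.onto i _ y.2
  refine ⟨⟨x, hx⟩, (C.O i).ι.isOpenEmbedding.injective ?_⟩
  rw [← Scheme.Hom.comp_apply, Scheme.Hom.resLE_comp_ι, Scheme.Hom.comp_apply]
  exact e⟩

instance OntoCharts.etale_toTgt : Etale C.toTgt :=
  IsZariskiLocalAtSource.sigmaDesc (P := @Etale) fun i => inferInstance

instance OntoCharts.surjective_toTgt : Surjective C.toTgt := ⟨fun y => by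
  obtain ⟨i, hi⟩ := C.cover y
  refine ⟨Sigma.ι (fun i => (C.O i).toScheme) i ⟨y, hi⟩, ?_⟩
  rw [← Scheme.Hom.comp_apply, OntoCharts.toTgt, Sigma.ι_desc]
  rfl⟩

theorem isUnivSubmersive_of_acyclic {X Y : Scheme.{u}} (f : X ⟶ Y) [Surjective f] [QuasiCompact f]
    (hg : EtAcyc.IsULocZeroAcyclic f) : EtDesc.IsUnivSubmersive f := fun Y g => by
  haveI := surjective_pullback_snd f Y g
  haveI : QuasiCompact (pullback.snd f g) := MorphismProperty.pullback_snd _ _ ‹_›
  exact ⟨(pullback.snd f g).surjective, ZeroAcycLib.isQuotientMap_of_generalizing _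
    (ZeroAcycLib.generalizingMap_of_acyclic _
      (ZeroAcycLib.isULocZeroAcyclic_of_isPullback hg (IsPullback.of_hasPullback f g)))⟩

/-- Universal effective descent from charts whose map is universally locally 0-acyclic. -/
theorem OntoCharts.isEffective (hC : EtAcyc.IsULocZeroAcyclic C.hom) {X₁ Y₁ : Scheme.{u}} (g₁ : X₁ ⟶ Y₁)
    (b' : X₁ ⟶ X) (b : Y₁ ⟶ Y) (hc : IsPullback b' g₁ g b) (F' : EtDesc.Sh X₁)
    (φ : (EtDesc.pullSh (pullback.fst g₁ g₁)).obj F' ≅ (EtDesc.pullSh (pullback.snd g₁ g₁)).obj F')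
    (hφ : EtDesc.IsCocycle F' φ) : EtDesc.IsEffective g₁ F' φ := by
  let Z₁ := pullback (C.hom ≫ C.toTgt) b
  let e₁ : pullback C.toTgt b ⟶ Y₁ := pullback.snd C.toTgt b
  let h₁ : Z₁ ⟶ pullback C.toTgt b :=
    pullback.lift (pullback.fst _ _ ≫ C.hom) (pullback.snd _ _) (by rw [Category.assoc, pullback.condition])
  let s₁ : Z₁ ⟶ X₁ :=
    hc.lift (pullback.fst _ _ ≫ C.toSrc) (pullback.snd _ _) (by rw [Category.assoc, C.fac, pullback.condition])
  have w : s₁ ≫ g₁ = h₁ ≫ e₁ := by simp only [s₁, h₁, e₁, IsPullback.lift_snd, pullback.lift_snd]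
  have c : IsPullback (pullback.fst (C.hom ≫ C.toTgt) b) h₁ C.hom (pullback.fst C.toTgt b) :=
    IsPullback.of_bot (by rw [pullback.lift_snd]; exact IsPullback.of_hasPullback (C.hom ≫ C.toTgt) b)
      (pullback.lift_fst _ _ _).symm (IsPullback.of_hasPullback C.toTgt b)
  haveI := C.quasiCompact
  haveI := C.quasiSeparated
  haveI := C.surjective
  haveI : Surjective h₁ := MorphismProperty.of_isPullback c ‹Surjective C.hom›
  haveI : QuasiCompact h₁ := MorphismProperty.of_isPullback c ‹QuasiCompact C.hom›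
  haveI : QuasiSeparated h₁ := MorphismProperty.of_isPullback c ‹QuasiSeparated C.hom›
  haveI : Etale e₁ := MorphismProperty.pullback_snd (P := @Etale) _ _ C.etale_toTgt
  haveI : Surjective e₁ := MorphismProperty.pullback_snd (P := @Surjective) _ _ C.surjective_toTgt
  have hh := ZeroAcycLib.isULocZeroAcyclic_of_isPullback hC c
  exact isEffective_of_factor g₁ φ hφ s₁ h₁ e₁ w (isUnivSubmersive_of_acyclic h₁ hh)
    (isUnivSubmersive_of_universallyOpen e₁) (fun F φ hφ => isEffective_of_acyclic h₁ hh φ hφ)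
    (fun F φ hφ => isEffective_etale e₁ φ hφ)

/-- Universal effective descent along surjective morphisms to a discrete scheme. -/
theorem isEffective_discrete {X Y : Scheme.{u}} (g : X ⟶ Y) [Surjective g] [DiscreteTopology Y]
    {X₁ Y₁ : Scheme.{u}} (g₁ : X₁ ⟶ Y₁) (b' : X₁ ⟶ X) (b : Y₁ ⟶ Y) (hc : IsPullback b' g₁ g b) (F' : EtDesc.Sh X₁)
    (φ : (EtDesc.pullSh (pullback.fst g₁ g₁)).obj F' ≅ (EtDesc.pullSh (pullback.snd g₁ g₁)).obj F')
    (hφ : EtDesc.IsCocycle F' φ) : EtDesc.IsEffective g₁ F' φ := by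
  have hx : ∀ y : Y, ∃ x : X, g x = y := fun y => g.surjective y
  choose x hx using hx
  let O : Y → Y.Opens := fun y => ⟨{y}, isOpen_discrete _⟩
  have hW : ∀ y, ∃ W : X.Opens, IsAffineOpen W ∧ x y ∈ W ∧ W ≤ g ⁻¹ᵁ O y := fun y => by
    obtain ⟨W, h₁, h₂, h₃⟩ := exists_isAffineOpen_mem_and_subset (X := X) (U := g ⁻¹ᵁ O y) (x := x y)
      (show g (x y) ∈ ({y} : Set Y) from hx y)
    exact ⟨W, h₁, h₂, h₃⟩
  choose W hW hxW hle using hW
  have hO : ∀ y, (O y).toScheme.IsSeparated := fun y => by
    obtain ⟨V, hV, hyV, -⟩ := exists_isAffineOpen_mem_and_subset (X := Y) (U := ⊤) (x := y) trivial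
    haveI : IsAffine V.toScheme := hV
    exact ⟨by
      rw [← terminal.comp_from (Y.homOfLE (show O y ≤ V from fun z hz => by obtain rfl := hz; exact hyV))]
      infer_instance⟩
  let C : OntoCharts g :=
    { I := Y, W := W, O := O, affine := hW, separated := hO, le := hle,
      onto := fun y z hz => ⟨x y, hxW y, (hx y).trans (show z = y from hz).symm⟩,
      cover := fun y => ⟨y, rfl⟩ }
  haveI : DiscreteTopology ↥C.tgt := by
    haveI : ∀ i : C.I, DiscreteTopology ↥(C.O i).toScheme := fun i => inferInstanceAs (DiscreteTopology ↥(O i : Set Y))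
    exact (sigmaMk fun i => (C.O i).toScheme).symm.isEmbedding.discreteTopology
  exact C.isEffective (ZeroAcycLib.isULocZeroAcyclic_of_discrete C.hom) g₁ b' b hc F' φ hφ

theorem geometricallyReduced_of_isOpenImmersion_comp {U X Y : Scheme.{u}} (j : U ⟶ X) [IsOpenImmersion j]
    (g : X ⟶ Y) [GeometricallyReduced g] : GeometricallyReduced (j ≫ g) :=
  ⟨fun K _ y Z fst snd h => by
    haveI : IsReduced (pullback g y) :=
      GeometricallyReduced.geometrically_isReduced _ _ _ (IsPullback.of_hasPullback g y)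
    exact isReduced_of_isOpenImmersion
      (h.isoPullback.hom ≫ (pullbackRightPullbackFstIso g y j).inv ≫ pullback.snd _ _)⟩

/-- Universal effective descent along surjective universally open flat morphisms with geometrically reduced
fibres, locally of finite presentation or over a locally Noetherian base. -/
theorem isEffective_flat_open {X Y : Scheme.{u}} (g : X ⟶ Y) [Surjective g] [Flat g] [GeometricallyReduced g]
    [UniversallyOpen g] (h : IsLocallyNoetherian Y ∨ LocallyOfFinitePresentation g)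
    {X₁ Y₁ : Scheme.{u}} (g₁ : X₁ ⟶ Y₁) (b' : X₁ ⟶ X) (b : Y₁ ⟶ Y) (hc : IsPullback b' g₁ g b) (F' : EtDesc.Sh X₁)
    (φ : (EtDesc.pullSh (pullback.fst g₁ g₁)).obj F' ≅ (EtDesc.pullSh (pullback.snd g₁ g₁)).obj F')
    (hφ : EtDesc.IsCocycle F' φ) : EtDesc.IsEffective g₁ F' φ := by
  have hV : ∀ x : X, ∃ (V : Y.Opens) (W : X.Opens), IsAffineOpen V ∧ IsAffineOpen W ∧ x ∈ W ∧ W ≤ g ⁻¹ᵁ V := fun x => by
    obtain ⟨V, hV, hxV, -⟩ := exists_isAffineOpen_mem_and_subset (X := Y) (U := ⊤) (x := g x) trivial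
    obtain ⟨W, h₁, h₂, h₃⟩ := exists_isAffineOpen_mem_and_subset (X := X) (U := g ⁻¹ᵁ V) (x := x) hxV
    exact ⟨V, W, hV, h₁, h₂, h₃⟩
  choose V W hV hW hxW hle using hV
  let O : X → Y.Opens := fun x => ⟨g '' W x, g.isOpenMap _ (W x).2⟩
  have hOV : ∀ x, O x ≤ V x := fun x => by
    rintro _ ⟨z, hz, rfl⟩
    exact hle x hz
  let C : OntoCharts g :=
    { I := X, W := W, O := O, affine := hW,
      separated := fun x => by
        haveI : IsAffine (V x).toScheme := hV x
        exact ⟨by rw [← terminal.comp_from (Y.homOfLE (hOV x))]; infer_instance⟩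
      le := fun x z hz => ⟨z, hz, rfl⟩
      onto := fun x y hy => hy
      cover := fun y => by
        obtain ⟨x, rfl⟩ := g.surjective y
        exact ⟨x, x, hxW x, rfl⟩ }
  haveI : Flat C.hom := C.of_components @Flat fun i => by rw [Scheme.Hom.resLE]; infer_instance
  haveI : GeometricallyReduced C.hom := by
    haveI : IsZariskiLocalAtTarget @GeometricallyReduced := GeometricallyReduced.eq_geometrically ▸ inferInstance
    refine C.of_components @GeometricallyReduced fun i => ?_
    haveI : GeometricallyReduced (g ∣_ C.O i) :=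
      MorphismProperty.of_isPullback (P := @GeometricallyReduced) (isPullback_morphismRestrict g (C.O i)).flip ‹_›
    rw [Scheme.Hom.resLE]
    exact geometricallyReduced_of_isOpenImmersion_comp _ _
  refine C.isEffective (ZeroAcycLib.isULocZeroAcyclic_of_charts _
    (ZeroAcycLib.genClosedCharts_of_flat C.hom ?_)) g₁ b' b hc F' φ hφ
  refine h.imp (fun hN => ?_) fun hP => ?_
  · haveI := hN
    haveI : ∀ i, IsLocallyNoetherian (C.O i).toScheme := fun i => isLocallyNoetherian_of_isOpenImmersion (C.O i).ι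
    exact (isLocallyNoetherian_iff_openCover (sigmaOpenCover fun i => (C.O i).toScheme)).2 this
  · haveI := hP
    refine C.of_components @LocallyOfFinitePresentation fun i => ?_
    haveI : LocallyOfFinitePresentation (g ∣_ C.O i) :=
      MorphismProperty.of_isPullback (P := @LocallyOfFinitePresentation) (isPullback_morphismRestrict g (C.O i)).flip hP
    haveI : Smooth (X.homOfLE (C.le i)) := inferInstance
    rw [Scheme.Hom.resLE]
    infer_instance

end Groth.Agent.DescentStalkLib
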