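import Groth.Agent.DescentStalkLib.Basic

/-!
# Effective descent from base change of direct images and detection on geometric fibres
-/

set_option autoImplicit false
set_option linter.unusedSectionVars false
set_option linter.style.haveILetI false
set_option backward.isDefEq.respectTransparency false
set_option backward.isDefEq.respectTransparency.types false
set_option maxHeartbeats 1000000

universe u

open CategoryTheory CategoryTheory.Limits AlgebraicGeometry Opposite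
open Groth.Agent.EtPtsLib Groth.Agent.EtLimLib Groth.Agent.BCVertLib

noncomputable section

namespace Groth.Agent.DescentStalkLib

variable {X' X : Scheme.{u}} (f : X' ⟶ X) {F' : EtDesc.Sh X'}
  (φ : (EtDesc.pullSh (pullback.fst f f)).obj F' ≅ (EtDesc.pullSh (pullback.snd f f)).obj F')

variable {Ω : Type u} [Field Ω] [IsAlgClosed Ω]

/-- Two germs are matched by the descent datum. -/
def Rel (ζ₁ ζ₂ : Spec (CommRingCat.of Ω) ⟶ X') (t₁ : St ζ₁ F') (t₂ : St ζ₂ F') : Prop :=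
  ∀ (ω : Spec (CommRingCat.of Ω) ⟶ EtDesc.X2 f) (e₁ : ω ≫ pullback.fst f f = ζ₁) (e₂ : ω ≫ pullback.snd f f = ζ₂),
    stMap ω φ.hom (us (pullback.fst f f) ω F' (tr e₁.symm t₁)) = us (pullback.snd f f) ω F' (tr e₂.symm t₂)

theorem rel_iff (ω : Spec (CommRingCat.of Ω) ⟶ EtDesc.X2 f) (t₁ : St (ω ≫ pullback.fst f f) F')
    (t₂ : St (ω ≫ pullback.snd f f) F') :
    Rel f φ _ _ t₁ t₂ ↔
      stMap ω φ.hom (us (pullback.fst f f) ω F' t₁) = us (pullback.snd f f) ω F' t₂ := by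
  refine ⟨fun h => h ω rfl rfl, fun h ω' e₁ e₂ => ?_⟩
  obtain rfl : ω' = ω := pullback.hom_ext e₁ e₂
  exact h

theorem rel_mk (ζ₁ ζ₂ : Spec (CommRingCat.of Ω) ⟶ X') (ω : Spec (CommRingCat.of Ω) ⟶ EtDesc.X2 f)
    (e₁ : ω ≫ pullback.fst f f = ζ₁) (e₂ : ω ≫ pullback.snd f f = ζ₂) (t₁ : St ζ₁ F') (t₂ : St ζ₂ F')
    (h : stMap ω φ.hom (us (pullback.fst f f) ω F' (tr e₁.symm t₁)) = us (pullback.snd f f) ω F' (tr e₂.symm t₂)) :
    Rel f φ ζ₁ ζ₂ t₁ t₂ := by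
  subst e₁; subst e₂
  exact (rel_iff f φ ω t₁ t₂).2 h

theorem rel_exists {ζ₁ ζ₂ : Spec (CommRingCat.of Ω) ⟶ X'} (h : ζ₁ ≫ f = ζ₂ ≫ f) (t₁ : St ζ₁ F') :
    ∃ t₂, Rel f φ ζ₁ ζ₂ t₁ t₂ := by
  let ω := pullback.lift ζ₁ ζ₂ h
  have e₁ : ω ≫ pullback.fst f f = ζ₁ := pullback.lift_fst _ _ _
  have e₂ : ω ≫ pullback.snd f f = ζ₂ := pullback.lift_snd _ _ _
  obtain ⟨z, hz⟩ := (bijective_us (pullback.snd f f) ω F').2
    (stMap ω φ.hom (us (pullback.fst f f) ω F' (tr e₁.symm t₁)))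
  refine ⟨tr e₂ z, rel_mk f φ ζ₁ ζ₂ ω e₁ e₂ t₁ _ ?_⟩
  rw [tr_tr, tr_rfl]
  exact hz.symm

theorem rel_functional {ζ₁ ζ₂ : Spec (CommRingCat.of Ω) ⟶ X'} (h : ζ₁ ≫ f = ζ₂ ≫ f) {t₁ : St ζ₁ F'}
    {t₂ t₂' : St ζ₂ F'} (r : Rel f φ ζ₁ ζ₂ t₁ t₂) (r' : Rel f φ ζ₁ ζ₂ t₁ t₂') : t₂ = t₂' := by
  let ω := pullback.lift ζ₁ ζ₂ h
  have e₁ : ω ≫ pullback.fst f f = ζ₁ := pullback.lift_fst _ _ _
  have e₂ : ω ≫ pullback.snd f f = ζ₂ := pullback.lift_snd _ _ _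
  have h2 := (bijective_us (pullback.snd f f) ω F').1 ((r ω e₁ e₂).symm.trans (r' ω e₁ e₂))
  have h3 := congrArg (tr e₂) h2
  rwa [tr_tr, tr_rfl, tr_tr, tr_rfl] at h3

theorem rel_injective {ζ₁ ζ₂ : Spec (CommRingCat.of Ω) ⟶ X'} (h : ζ₁ ≫ f = ζ₂ ≫ f) {t₁ t₁' : St ζ₁ F'}
    {t₂ : St ζ₂ F'} (r : Rel f φ ζ₁ ζ₂ t₁ t₂) (r' : Rel f φ ζ₁ ζ₂ t₁' t₂) : t₁ = t₁' := by
  let ω := pullback.lift ζ₁ ζ₂ h
  have e₁ : ω ≫ pullback.fst f f = ζ₁ := pullback.lift_fst _ _ _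
  have e₂ : ω ≫ pullback.snd f f = ζ₂ := pullback.lift_snd _ _ _
  have h2 := (bijective_us (pullback.fst f f) ω F').1
    ((bijective_stMap_iso ω φ).1 ((r ω e₁ e₂).trans (r' ω e₁ e₂).symm))
  have h3 := congrArg (tr e₁) h2
  rwa [tr_tr, tr_rfl, tr_tr, tr_rfl] at h3

variable (hφ : EtDesc.IsCocycle F' φ)

theorem stMap_pullIsoVia (g : EtDesc.X3 f ⟶ EtDesc.X2 f) (b₁ b₂ : EtDesc.X3 f ⟶ X')
    (w₁ : g ≫ pullback.fst f f = b₁) (w₂ : g ≫ pullback.snd f f = b₂) (τ : Spec (CommRingCat.of Ω) ⟶ EtDesc.X3 f)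
    (t₁ : St (τ ≫ b₁) F') (t₂ : St (τ ≫ b₂) F')
    (r : Rel f φ (τ ≫ b₁) (τ ≫ b₂) t₁ t₂) :
    stMap τ (EtDesc.pullIsoVia g b₁ b₂ w₁ w₂ F' φ).hom (us b₁ τ F' t₁) = us b₂ τ F' t₂ := by
  have e₁ : (τ ≫ g) ≫ pullback.fst f f = τ ≫ b₁ := by rw [Category.assoc, w₁]
  have e₂ : (τ ≫ g) ≫ pullback.snd f f = τ ≫ b₂ := by rw [Category.assoc, w₂]
  have h₁ : stMap τ (EtDesc.pullVia g (pullback.fst f f) b₁ w₁ F').inv (us b₁ τ F' t₁) =
      us g τ _ (us (pullback.fst f f) (τ ≫ g) F' (tr e₁.symm t₁)) := by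
    apply (bijective_stMap_iso τ (EtDesc.pullVia g (pullback.fst f f) b₁ w₁ F')).1
    rw [← stMap_comp, Iso.inv_hom_id, stMap_pullVia, tr_tr, tr_rfl]
    exact stMap_id τ _
  refine (stMap_comp τ (EtDesc.pullVia g (pullback.fst f f) b₁ w₁ F').inv
    ((EtDesc.pullSh g).map φ.hom ≫ (EtDesc.pullVia g (pullback.snd f f) b₂ w₂ F').hom) _).trans ?_
  rw [h₁, stMap_comp, us_natural, r (τ ≫ g) e₁ e₂, stMap_pullVia, tr_tr, tr_rfl]

include hφ

theorem rel_trans {ζ₁ ζ₂ ζ₃ : Spec (CommRingCat.of Ω) ⟶ X'} (h₁₂ : ζ₁ ≫ f = ζ₂ ≫ f) (h₂₃ : ζ₂ ≫ f = ζ₃ ≫ f)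
    {t₁ : St ζ₁ F'} {t₂ : St ζ₂ F'} {t₃ : St ζ₃ F'} (r₁₂ : Rel f φ ζ₁ ζ₂ t₁ t₂) (r₂₃ : Rel f φ ζ₂ ζ₃ t₂ t₃) :
    Rel f φ ζ₁ ζ₃ t₁ t₃ := by
  obtain ⟨τ, ha, hb⟩ : ∃ τ : Spec (CommRingCat.of Ω) ⟶ EtDesc.X3 f,
      τ ≫ EtDesc.p12 f = pullback.lift ζ₁ ζ₂ h₁₂ ∧ τ ≫ EtDesc.p23 f = pullback.lift ζ₂ ζ₃ h₂₃ :=
    ⟨pullback.lift (pullback.lift ζ₁ ζ₂ h₁₂) (pullback.lift ζ₂ ζ₃ h₂₃) (by rw [pullback.lift_snd, pullback.lift_fst]),
      pullback.lift_fst _ _ _, pullback.lift_snd _ _ _⟩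
  have e₁ : τ ≫ EtDesc.q1 (f := f) = ζ₁ := by rw [EtDesc.q1, ← Category.assoc, ha, pullback.lift_fst]
  have e₂ : τ ≫ EtDesc.q2 (f := f) = ζ₂ := by rw [EtDesc.q2, ← Category.assoc, ha, pullback.lift_snd]
  have e₃ : τ ≫ EtDesc.q3 (f := f) = ζ₃ := by rw [EtDesc.q3, ← Category.assoc, hb, pullback.lift_snd]
  subst e₁; subst e₂; subst e₃
  obtain ⟨t₃', r₁₃⟩ := rel_exists f φ (h₁₂.trans h₂₃) t₁
  suffices e : t₃' = t₃ by rwa [← e]
  refine (bijective_us (EtDesc.q3 (f := f)) τ F').1 ?_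
  rw [← stMap_pullIsoVia f φ (EtDesc.p13 f) _ _ EtDesc.p13_fst EtDesc.p13_snd τ t₁ t₃' r₁₃,
    ← show (EtDesc.pullIsoVia (EtDesc.p12 f) EtDesc.q1 EtDesc.q2 rfl rfl F' φ).hom ≫
        (EtDesc.pullIsoVia (EtDesc.p23 f) EtDesc.q2 EtDesc.q3 EtDesc.p23_fst rfl F' φ).hom =
      (EtDesc.pullIsoVia (EtDesc.p13 f) EtDesc.q1 EtDesc.q3 EtDesc.p13_fst EtDesc.p13_snd F' φ).hom from hφ,
    stMap_comp, stMap_pullIsoVia f φ (EtDesc.p12 f) _ _ rfl rfl τ t₁ t₂ r₁₂,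
    stMap_pullIsoVia f φ (EtDesc.p23 f) _ _ EtDesc.p23_fst rfl τ t₂ t₃ r₂₃]

theorem rel_refl {ζ : Spec (CommRingCat.of Ω) ⟶ X'} (t : St ζ F') : Rel f φ ζ ζ t t := by
  obtain ⟨u, r⟩ := rel_exists f φ (ζ₁ := ζ) (ζ₂ := ζ) rfl t
  obtain ⟨v, r'⟩ := rel_exists f φ (ζ₁ := ζ) (ζ₂ := ζ) rfl u
  obtain rfl := rel_functional f φ rfl (rel_trans f φ hφ rfl rfl r r') r
  obtain rfl := rel_injective f φ rfl r r'
  exact r

omit hφ

/-- The map to the direct image along the diagonal composite, without the descent datum. -/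
def descMapA (F' : EtDesc.Sh X') :
    (EtDesc.pushSh f).obj F' ⟶
      (EtDesc.pushSh (pullback.fst f f ≫ f)).obj ((EtDesc.pullSh (pullback.snd f f)).obj F') :=
  theta f (pullback.snd f f) (pullback.fst f f ≫ f) pullback.condition.symm F'

/-- The map to the direct image along the diagonal composite, with the descent datum. -/
def descMapB :
    (EtDesc.pushSh f).obj F' ⟶
      (EtDesc.pushSh (pullback.fst f f ≫ f)).obj ((EtDesc.pullSh (pullback.snd f f)).obj F') :=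
  theta f (pullback.fst f f) (pullback.fst f f ≫ f) rfl F' ≫ (EtDesc.pushSh (pullback.fst f f ≫ f)).map φ.hom

/-- The descended sheaf. -/
def desc : EtDesc.Sh X := equalizer (descMapA f F') (descMapB f φ)

/-- The candidate isomorphism. -/
def descHom : (EtDesc.pullSh f).obj (desc f φ) ⟶ F' :=
  ((EtDesc.adjSh f).homEquiv _ _).symm (equalizer.ι _ _)

variable
  (hf : ∀ {Ω : Type u} [Field Ω] [IsAlgClosed Ω] (η : Spec (CommRingCat.of Ω) ⟶ X) (G : EtDesc.Sh X')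
    (x y : St η ((EtDesc.pushSh f).obj G)), (∀ ζ, ev f η ζ G x = ev f η ζ G y) → x = y)
  (hπ : ∀ {Ω : Type u} [Field Ω] [IsAlgClosed Ω] (η : Spec (CommRingCat.of Ω) ⟶ X) (G : EtDesc.Sh (EtDesc.X2 f))
    (x y : St η ((EtDesc.pushSh (pullback.fst f f ≫ f)).obj G)),
      (∀ ζ, ev (pullback.fst f f ≫ f) η ζ G x = ev (pullback.fst f f ≫ f) η ζ G y) → x = y)
  (hbc : ∀ G : EtDesc.Sh X', IsIso (EtBC.baseChange0Sh f f (pullback.fst f f) (pullback.snd f f)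
    pullback.condition.symm G))

theorem ev_descMaps (η : Spec (CommRingCat.of Ω) ⟶ X) (x : St η ((EtDesc.pushSh f).obj F'))
    (ω : EtaleSplit.GPts (pullback.fst f f ≫ f) η) :
    ev (pullback.fst f f ≫ f) η ω _ (stMap η (descMapA f F') x) =
        us (pullback.snd f f) ω.1 F' (ev f η ⟨ω.1 ≫ pullback.snd f f, by
          rw [Category.assoc, ← pullback.condition]; exact ω.2⟩ F' x) ∧
      ev (pullback.fst f f ≫ f) η ω _ (stMap η (descMapB f φ) x) =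
        stMap ω.1 φ.hom (us (pullback.fst f f) ω.1 F' (ev f η ⟨ω.1 ≫ pullback.fst f f, by
          rw [Category.assoc]; exact ω.2⟩ F' x)) :=
  ⟨ev_theta f (pullback.snd f f) _ pullback.condition.symm F' η ω x, by
    rw [descMapB, stMap_comp, ev_natural, ev_theta f (pullback.fst f f) _ rfl F' η ω x]⟩

theorem rel_of_eq (η : Spec (CommRingCat.of Ω) ⟶ X) (x : St η ((EtDesc.pushSh f).obj F'))
    (h : stMap η (descMapA f F') x = stMap η (descMapB f φ) x) (ζ₁ ζ₂ : EtaleSplit.GPts f η) :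
    Rel f φ ζ₁.1 ζ₂.1 (ev f η ζ₁ F' x) (ev f η ζ₂ F' x) := by
  intro ω e₁ e₂
  have hω : ω ≫ pullback.fst f f ≫ f = η := by rw [← Category.assoc, e₁]; exact ζ₁.2
  obtain ⟨ha, hb⟩ := ev_descMaps f φ η x ⟨ω, hω⟩
  rw [ev_eq f e₁.symm F' x (ζ' := ⟨ω ≫ pullback.fst f f, by rw [Category.assoc]; exact hω⟩),
    ev_eq f e₂.symm F' x (ζ' := ⟨ω ≫ pullback.snd f f, by rw [Category.assoc, ← pullback.condition]; exact hω⟩)]
  rw [h] at ha
  exact hb.symm.trans ha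

include hπ in
theorem rel_of_equalizes (η : Spec (CommRingCat.of Ω) ⟶ X) (x : St η ((EtDesc.pushSh f).obj F')) :
    stMap η (descMapA f F') x = stMap η (descMapB f φ) x ↔
      ∀ ζ₁ ζ₂ : EtaleSplit.GPts f η, Rel f φ ζ₁.1 ζ₂.1 (ev f η ζ₁ F' x) (ev f η ζ₂ F' x) := by
  refine ⟨rel_of_eq f φ η x, fun h => hπ η _ _ _ fun ω => ?_⟩
  obtain ⟨ha, hb⟩ := ev_descMaps f φ η x ω
  rw [ha, hb]
  exact ((rel_iff f φ ω.1 _ _).1
    (h ⟨ω.1 ≫ pullback.fst f f, by rw [Category.assoc]; exact ω.2⟩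
      ⟨ω.1 ≫ pullback.snd f f, by rw [Category.assoc, ← pullback.condition]; exact ω.2⟩)).symm

theorem exists_desc_stalk (η : Spec (CommRingCat.of Ω) ⟶ X) (x : St η ((EtDesc.pushSh f).obj F'))
    (h : stMap η (descMapA f F') x = stMap η (descMapB f φ) x) :
    ∃! y : St η (desc f φ), stMap η (equalizer.ι _ _) y = x := by
  haveI : AB5OfSize.{u, u} (Type (u + 1)) := AB5OfSize_of_univLE.{u, u, u + 1, u + 1} _
  let Φ := (Scheme.pointSmallEtale η).sheafFiber (A := Type (u + 1))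
  have hl := isLimitForkMapOfIsLimit Φ (equalizer.condition (descMapA f F') (descMapB f φ))
    (equalizerIsEqualizer _ _)
  exact (Types.type_equalizer_iff_unique _ _).1 ⟨hl⟩ x h

theorem equalizes_ι (η : Spec (CommRingCat.of Ω) ⟶ X) (y : St η (desc f φ)) :
    stMap η (descMapA f F') (stMap η (equalizer.ι _ _) y) = stMap η (descMapB f φ) (stMap η (equalizer.ι _ _) y) := by
  rw [← stMap_comp, ← stMap_comp, equalizer.condition]

include hbc in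
/-- A germ spreads along the geometric fibre. -/
theorem exists_spread (ζ : Spec (CommRingCat.of Ω) ⟶ X') (t : St ζ F') :
    ∃ x : St (ζ ≫ f) ((EtDesc.pushSh f).obj F'),
      ∀ ζ' : EtaleSplit.GPts f (ζ ≫ f), Rel f φ ζ ζ'.1 t (ev f _ ζ' F' x) := by
  have sq : IsPullback (pullback.snd f f) (pullback.fst f f) f f := (IsPullback.of_hasPullback f f).flip
  let α := EtBC.baseChange0Sh f f (pullback.fst f f) (pullback.snd f f) sq.w F'
  let m : F' ⟶ (EtDesc.pushSh (pullback.fst f f)).obj ((EtDesc.pullSh (pullback.snd f f)).obj F') :=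
    (EtDesc.adjSh (pullback.fst f f)).homEquiv _ _ φ.hom
  haveI : IsIso α := hbc F'
  obtain ⟨u, hu⟩ := (bijective_stMap_iso ζ (asIso α)).2 (stMap ζ m t)
  obtain ⟨x, rfl⟩ := (bijective_us f ζ ((EtDesc.pushSh f).obj F')).2 u
  refine ⟨x, fun ζ' => ?_⟩
  let ω : Spec (CommRingCat.of Ω) ⟶ EtDesc.X2 f := pullback.lift ζ ζ'.1 ζ'.2.symm
  have e₁ : ω ≫ pullback.fst f f = ζ := pullback.lift_fst _ _ _
  have e₂ : ω ≫ pullback.snd f f = ζ'.1 := pullback.lift_snd _ _ _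
  refine rel_mk f φ ζ ζ'.1 ω e₁ e₂ t _ ?_
  have h1 : bcStalk f f (pullback.fst f f) (pullback.snd f f) ζ F' α x = stMap ζ m t :=
    (ConcreteCategory.comp_apply (unitStalk f ζ ((EtDesc.pushSh f).obj F'))
      ((Scheme.pointSmallEtale ζ).presheafFiber.map α.hom) x).trans hu
  have h2 := bcStalk_comm_apply f f (pullback.fst f f) (pullback.snd f f) sq ζ F' α
    (isBC_sh f f (pullback.fst f f) (pullback.snd f f) sq F') ⟨ω, e₁⟩ x
  rw [h1] at h2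
  have h3 := stMap_transpose (pullback.fst f f) m ζ ⟨ω, e₁⟩ t
  rw [Equiv.symm_apply_apply] at h3
  refine h3.trans (Eq.trans h2 ?_)
  refine congrArg (us (pullback.snd f f) ω F') ?_
  exact (ev_eq f (ζ := ζ') (ζ' := gptImage f f (pullback.fst f f) (pullback.snd f f) sq ζ ⟨ω, e₁⟩) e₂.symm F' x).symm

include hφ hf hπ hbc in
/-- The candidate isomorphism is bijective on stalks. -/
theorem bijective_descHom (ζ : Spec (CommRingCat.of Ω) ⟶ X') : Function.Bijective (stMap ζ (descHom f φ)) := by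
  have hc : ∀ y, stMap ζ (descHom f φ) (us f ζ (desc f φ) y) =
      ev f (ζ ≫ f) ⟨ζ, rfl⟩ F' (stMap (ζ ≫ f) (equalizer.ι _ _) y) := fun y =>
    stMap_transpose f (equalizer.ι (descMapA f F') (descMapB f φ)) (ζ ≫ f) ⟨ζ, rfl⟩ y
  refine (Function.Bijective.of_comp_iff _ (bijective_us f ζ (desc f φ))).1 ⟨fun a b hab => ?_, fun t => ?_⟩
  · simp only [Function.comp_apply, hc] at hab
    have ha := (rel_of_equalizes f φ hπ (ζ ≫ f) _).1 (equalizes_ι f φ (ζ ≫ f) a)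
    have hb := (rel_of_equalizes f φ hπ (ζ ≫ f) _).1 (equalizes_ι f φ (ζ ≫ f) b)
    have he : stMap (ζ ≫ f) (equalizer.ι _ _) a = stMap (ζ ≫ f) (equalizer.ι _ _) b :=
      hf (ζ ≫ f) F' _ _ fun ζ' => rel_functional f φ ζ'.2.symm (hab ▸ ha ⟨ζ, rfl⟩ ζ') (hb ⟨ζ, rfl⟩ ζ')
    exact (exists_desc_stalk f φ (ζ ≫ f) _ (equalizes_ι f φ _ b)).unique he rfl
  · obtain ⟨x, hx⟩ := exists_spread f φ hbc ζ t
    have heq : stMap (ζ ≫ f) (descMapA f F') x = stMap (ζ ≫ f) (descMapB f φ) x :=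
      (rel_of_equalizes f φ hπ (ζ ≫ f) x).2 fun ζ₁ ζ₂ => by
        obtain ⟨v, hv⟩ := rel_exists f φ (ζ₁.2.trans ζ₂.2.symm) (ev f _ ζ₁ F' x)
        rwa [rel_functional f φ ζ₂.2.symm (rel_trans f φ hφ ζ₁.2.symm (ζ₁.2.trans ζ₂.2.symm) (hx ζ₁) hv) (hx ζ₂)] at hv
    obtain ⟨y, hy, -⟩ := exists_desc_stalk f φ (ζ ≫ f) x heq
    refine ⟨y, ?_⟩
    simp only [Function.comp_apply, hc, hy]
    exact rel_functional f φ rfl (hx ⟨ζ, rfl⟩) (rel_refl f φ hφ t)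

theorem canIso_descHom :
    (EtDesc.canIso f (desc f φ)).hom ≫ (EtDesc.pullSh (pullback.snd f f)).map (descHom f φ) =
      (EtDesc.pullSh (pullback.fst f f)).map (descHom f φ) ≫ φ.hom := by
  refine hom_ext_st _ _ fun p z => ?_
  let ω := geomPtAlg p
  obtain ⟨z, rfl⟩ := (bijective_us (pullback.fst f f) ω _).2 z
  obtain ⟨y, rfl⟩ := (bijective_us f (ω ≫ pullback.fst f f) (desc f φ)).2 z
  have e : (ω ≫ pullback.fst f f) ≫ f = (ω ≫ pullback.snd f f) ≫ f := by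
    rw [Category.assoc, Category.assoc, pullback.condition]
  have hcan : stMap ω (EtDesc.canIso f (desc f φ)).hom
      (us (pullback.fst f f) ω _ (us f (ω ≫ pullback.fst f f) (desc f φ) y)) =
      us (pullback.snd f f) ω _ (us f (ω ≫ pullback.snd f f) (desc f φ) (tr e y)) := by
    let V₁ := EtDesc.pullVia (pullback.fst f f) f (pullback.fst f f ≫ f) rfl (desc f φ)
    let V₂ := EtDesc.pullVia (pullback.snd f f) f (pullback.fst f f ≫ f) pullback.condition.symm (desc f φ)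
    apply (bijective_stMap_iso ω V₂).1
    rw [← stMap_comp, show (EtDesc.canIso f (desc f φ)).hom ≫ V₂.hom = V₁.hom by simp [EtDesc.canIso, V₁, V₂],
      stMap_pullVia, stMap_pullVia, tr_tr]
  rw [stMap_comp, stMap_comp, hcan, us_natural, us_natural, descHom]
  have h₁ := stMap_transpose f (equalizer.ι (descMapA f F') (descMapB f φ)) _ ⟨ω ≫ pullback.fst f f, rfl⟩ y
  have h₂ := stMap_transpose f (equalizer.ι (descMapA f F') (descMapB f φ)) _ ⟨ω ≫ pullback.snd f f, e.symm⟩ y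
  simp only [tr_rfl] at h₁
  erw [h₁, h₂]
  exact ((rel_of_eq f φ _ _ (equalizes_ι f φ _ y)
    ⟨ω ≫ pullback.fst f f, rfl⟩ ⟨ω ≫ pullback.snd f f, e.symm⟩) ω rfl rfl).symm

include hφ in
/-- Effective descent from bijectivity on stalks. -/
theorem isEffective_of_bijective
    (h : ∀ x : X', Function.Bijective (stMap (geomPtAlg x) (descHom f φ))) : EtDesc.IsEffective f F' φ := by
  haveI : IsIso (descHom f φ) := isIso_of_alg_sh _ h
  refine ⟨desc f φ, asIso (descHom f φ), Iso.ext ?_⟩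
  simp only [Iso.trans_hom, Iso.symm_hom, Functor.mapIso_inv, Functor.mapIso_hom, asIso_hom, asIso_inv, Functor.map_inv]
  rw [IsIso.inv_comp_eq, canIso_descHom f φ]

include hφ hf hπ hbc in
/-- Effective descent. -/
theorem isEffective : EtDesc.IsEffective f F' φ :=
  isEffective_of_bijective f φ hφ fun x => bijective_descHom f φ hφ hf hπ hbc (geomPtAlg x)

end Groth.Agent.DescentStalkLib
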