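import Groth.Agent.DescentStalkLib.RelCalc

/-!
# Effective descent through a factorisation

If `s ≫ f = h ≫ e` with `h` and `e` universally submersive of effective descent for every datum, then every
descent datum along `f` is effective.
-/

set_option autoImplicit false
set_option linter.unusedSectionVars false
set_option linter.style.haveILetI false
set_option backward.isDefEq.respectTransparency false
set_option backward.isDefEq.respectTransparency.types false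
set_option maxHeartbeats 1000000

universe u

open CategoryTheory CategoryTheory.Limits AlgebraicGeometry Opposite
open Groth.Agent.EtPtsLib

noncomputable section

namespace Groth.Agent.DescentStalkLib

section Submersive

theorem isUnivSubmersive_of_isPullback {Z P Z' P' : Scheme.{u}} {h : Z ⟶ P} (hh : EtDesc.IsUnivSubmersive h)
    {m : Z' ⟶ Z} {h' : Z' ⟶ P'} {n : P' ⟶ P} (c : IsPullback m h' h n) : EtDesc.IsUnivSubmersive h' := by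
  intro Y g
  obtain ⟨hs, hq⟩ := hh Y (g ≫ n)
  let i := ((IsPullback.of_hasPullback h' g).paste_horiz c).isoPullback
  have e : i.hom ≫ pullback.snd h (g ≫ n) = pullback.snd h' g := IsPullback.isoPullback_hom_snd _
  have hb : ⇑(pullback.snd h' g) = ⇑(pullback.snd h (g ≫ n)) ∘ ⇑i.hom := funext fun z => by rw [← e]; rfl
  rw [hb]
  exact ⟨hs.comp i.hom.homeomorph.surjective, hq.comp i.hom.homeomorph.isQuotientMap⟩

theorem isUnivSubmersive_comp {Z P X : Scheme.{u}} {h : Z ⟶ P} {e : P ⟶ X} (hh : EtDesc.IsUnivSubmersive h)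
    (he : EtDesc.IsUnivSubmersive e) : EtDesc.IsUnivSubmersive (h ≫ e) := by
  intro Y g
  obtain ⟨hs₁, hq₁⟩ := hh _ (pullback.fst e g)
  obtain ⟨hs₂, hq₂⟩ := he Y g
  let i := ((IsPullback.of_hasPullback h (pullback.fst e g)).paste_vert (IsPullback.of_hasPullback e g)).isoPullback
  have e' : i.inv ≫ pullback.snd h (pullback.fst e g) ≫ pullback.snd e g = pullback.snd (h ≫ e) g := by
    rw [Iso.inv_comp_eq]
    exact (IsPullback.isoPullback_hom_snd _).symm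
  have hb : ⇑(pullback.snd (h ≫ e) g) =
      (⇑(pullback.snd e g) ∘ ⇑(pullback.snd h (pullback.fst e g))) ∘ ⇑i.inv := funext fun z => by rw [← e']; rfl
  rw [hb]
  exact ⟨(hs₂.comp hs₁).comp i.inv.homeomorph.surjective, (hq₂.comp hq₁).comp i.inv.homeomorph.isQuotientMap⟩

theorem surjective_of_isUnivSubmersive {Z P : Scheme.{u}} {h : Z ⟶ P} (hh : EtDesc.IsUnivSubmersive h) :
    Surjective h := ⟨fun x => by
  obtain ⟨z, hz⟩ := (hh P (𝟙 P)).1 x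
  refine ⟨pullback.fst h (𝟙 P) z, ?_⟩
  rw [← Scheme.Hom.comp_apply, pullback.condition, Category.comp_id]
  exact hz⟩

end Submersive

variable {X' X : Scheme.{u}} (f : X' ⟶ X) {F' : EtDesc.Sh X'}
  (φ : (EtDesc.pullSh (pullback.fst f f)).obj F' ≅ (EtDesc.pullSh (pullback.snd f f)).obj F')
  (hφ : EtDesc.IsCocycle F' φ)

include hφ

/-- Effectivity from a compatible solution after composition with a map. -/
theorem isEffective_of_solution {Z : Scheme.{u}} (s : Z ⟶ X') (k : Z ⟶ X) (w : s ≫ f = k)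
    (hk : EtDesc.IsUnivSubmersive k) (G : EtDesc.Sh X)
    (ψ : (EtDesc.pullSh k).obj G ≅ (EtDesc.pullSh s).obj F')
    (hψ : ∀ (Ω : Type u) [Field Ω] [IsAlgClosed Ω] (z₁ z₂ : Spec (CommRingCat.of Ω) ⟶ Z) (e : z₁ ≫ k = z₂ ≫ k)
      (y : St (z₁ ≫ k) G) (t₁ : St (z₁ ≫ s) F') (t₂ : St (z₂ ≫ s) F'),
      stMap z₁ ψ.hom (us k z₁ G y) = us s z₁ F' t₁ → stMap z₂ ψ.hom (us k z₂ G (tr e y)) = us s z₂ F' t₂ →
      Rel f φ (z₁ ≫ s) (z₂ ≫ s) t₁ t₂) :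
    EtDesc.IsEffective f F' φ := by
  haveI := surjective_of_isUnivSubmersive hk
  let pr : pullback f k ⟶ X' := pullback.fst f k
  let c : pullback f k ⟶ Z := pullback.snd f k
  have hpr : EtDesc.IsUnivSubmersive pr := isUnivSubmersive_of_isPullback hk (IsPullback.of_hasPullback f k).flip
  have hc : c ≫ k = pr ≫ f := pullback.condition.symm
  have hcs : (c ≫ s) ≫ f = pr ≫ f := by rw [Category.assoc, w, hc]
  let a : (EtDesc.pullSh pr).obj ((EtDesc.pullSh f).obj G) ≅ (EtDesc.pullSh pr).obj F' :=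
    EtDesc.pullVia pr f (pr ≫ f) rfl G ≪≫ (EtDesc.pullVia c k (pr ≫ f) hc G).symm ≪≫
      (EtDesc.pullSh c).mapIso ψ ≪≫ EtDesc.pullVia c s (c ≫ s) rfl F' ≪≫
      viaIso f φ (pullback.lift (c ≫ s) pr hcs) (c ≫ s) pr (pullback.lift_fst _ _ _) (pullback.lift_snd _ _ _)
  have hval : ∀ (Ω : Type u) [Field Ω] [IsAlgClosed Ω] (τ : Spec (CommRingCat.of Ω) ⟶ pullback f k)
      (y : St ((τ ≫ pr) ≫ f) G) (e : (τ ≫ pr) ≫ f = (τ ≫ c) ≫ k) (t₀ : St ((τ ≫ c) ≫ s) F') (t : St (τ ≫ pr) F'),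
      stMap _ ψ.hom (us k (τ ≫ c) G (tr e y)) = us s (τ ≫ c) F' t₀ →
      Rel f φ ((τ ≫ c) ≫ s) (τ ≫ pr) t₀ t →
      stMap τ a.hom (us pr τ _ (us f (τ ≫ pr) G y)) = us pr τ F' t := by
    intro Ω _ _ τ y e t₀ t h₀ r
    have e0 : (τ ≫ c) ≫ k = τ ≫ pr ≫ f := by rw [Category.assoc, hc]
    simp only [a, Iso.trans_hom, Iso.symm_hom, Functor.mapIso_hom]
    rw [stMap_comp, stMap_comp, stMap_comp, stMap_comp, stMap_pullVia]
    rw [show tr (Category.assoc τ pr f) y = tr e0 (tr e y) by rw [tr_tr],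
      stMap_pullVia_inv c k _ hc τ G _ e0, us_natural, h₀, stMap_pullVia]
    refine stMap_viaIso f φ _ _ _ _ _ τ _ _ ?_
    exact rel_tr f φ (Category.assoc _ _ _) rfl r
  have hexists : ∀ (Ω : Type u) [Field Ω] [IsAlgClosed Ω] (τ : Spec (CommRingCat.of Ω) ⟶ pullback f k)
      (y : St ((τ ≫ pr) ≫ f) G), ∃ (e : (τ ≫ pr) ≫ f = (τ ≫ c) ≫ k) (t₀ : St ((τ ≫ c) ≫ s) F') (t : St (τ ≫ pr) F'),
      stMap _ ψ.hom (us k (τ ≫ c) G (tr e y)) = us s (τ ≫ c) F' t₀ ∧ Rel f φ ((τ ≫ c) ≫ s) (τ ≫ pr) t₀ t := by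
    intro Ω _ _ τ y
    have e : (τ ≫ pr) ≫ f = (τ ≫ c) ≫ k := by rw [Category.assoc, Category.assoc, hc]
    obtain ⟨t₀, h₀⟩ := (bijective_us s (τ ≫ c) F').2 (stMap _ ψ.hom (us k (τ ≫ c) G (tr e y)))
    obtain ⟨t, r⟩ := rel_exists f φ (show ((τ ≫ c) ≫ s) ≫ f = (τ ≫ pr) ≫ f by rw [e, Category.assoc _ s f, w]) t₀
    exact ⟨e, t₀, t, h₀.symm, r⟩
  obtain ⟨b, hb⟩ := exists_descended_hom pr hpr _ F' a.hom (fun Ω _ _ τ τ' eτ x z hx => by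
    obtain ⟨y, rfl⟩ := (bijective_us f (τ ≫ pr) G).2 x
    have e' : (τ ≫ pr) ≫ f = (τ' ≫ pr) ≫ f := congrArg (· ≫ f) eτ
    rw [← us_tr f eτ G y]
    obtain ⟨e₁, t₀, t, h₀, r⟩ := hexists Ω τ y
    obtain ⟨e₂, t₀', t', h₀', r'⟩ := hexists Ω τ' (tr e' y)
    rw [hval Ω τ y e₁ t₀ t h₀ r] at hx
    rw [hval Ω τ' _ e₂ t₀' t' h₀' r', ← (bijective_us pr τ F').1 hx]
    refine congrArg (us pr τ' F') ?_
    have ek : (τ ≫ c) ≫ k = (τ' ≫ c) ≫ k := e₁.symm.trans (e'.trans e₂)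
    rw [tr_tr, show e'.trans e₂ = e₁.trans ek from rfl, ← tr_tr e₁ ek] at h₀'
    have rz := hψ Ω _ _ ek _ t₀ t₀' h₀ h₀'
    have h1 : ((τ ≫ c) ≫ s) ≫ f = ((τ' ≫ c) ≫ s) ≫ f := by rw [Category.assoc _ s f, Category.assoc _ s f, w]; exact ek
    have h2 : ((τ' ≫ c) ≫ s) ≫ f = (τ' ≫ pr) ≫ f := by rw [e₂, Category.assoc _ s f, w]
    exact rel_functional f φ (h1.trans h2) (rel_trans f φ hφ h1 h2 rz r') (rel_tr f φ rfl eτ r))
  haveI : IsIso ((EtDesc.pullSh pr).map b) := by rw [hb]; infer_instance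
  haveI : IsIso b := by
    haveI := surjective_of_isUnivSubmersive hpr
    haveI := (S3047.result pr).2
    exact isIso_of_reflects_iso b (EtDesc.pullSh pr)
  have hbval : ∀ (Ω : Type u) [Field Ω] [IsAlgClosed Ω] (ζ : Spec (CommRingCat.of Ω) ⟶ X')
      (z : Spec (CommRingCat.of Ω) ⟶ Z) (e : ζ ≫ f = z ≫ k) (y : St (ζ ≫ f) G) (t₀ : St (z ≫ s) F'),
      stMap z ψ.hom (us k z G (tr e y)) = us s z F' t₀ →
      Rel f φ (z ≫ s) ζ t₀ (stMap ζ b (us f ζ G y)) := by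
    intro Ω _ _ ζ z e
    obtain ⟨τ, rfl, rfl⟩ : ∃ τ : Spec (CommRingCat.of Ω) ⟶ pullback f k, τ ≫ pr = ζ ∧ τ ≫ c = z :=
      ⟨pullback.lift ζ z e, pullback.lift_fst _ _ _, pullback.lift_snd _ _ _⟩
    intro y t₀ h₀
    obtain ⟨t, r⟩ := rel_exists f φ (show ((τ ≫ c) ≫ s) ≫ f = (τ ≫ pr) ≫ f by rw [e, Category.assoc _ s f, w]) t₀
    have h3 := hval Ω τ y e t₀ t h₀ r
    rw [← hb, us_natural] at h3
    rwa [(bijective_us pr τ F').1 h3]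
  let r : pullback (pullback.fst f f ≫ f) k ⟶ EtDesc.X2 f := pullback.fst _ _
  haveI : Surjective r := MorphismProperty.pullback_fst (P := @Surjective) _ _ ‹Surjective k›
  refine isEffective_of_compat_cover f φ r G b fun Ω _ _ τ e y => ?_
  let z := τ ≫ pullback.snd (pullback.fst f f ≫ f) k
  have e₁ : ((τ ≫ r) ≫ pullback.fst f f) ≫ f = z ≫ k := by
    simp only [Category.assoc, r, z]
    exact congrArg (τ ≫ ·) pullback.condition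
  obtain ⟨t₀, h₀⟩ := (bijective_us s z F').2 (stMap _ ψ.hom (us k z G (tr e₁ y)))
  have hs : (z ≫ s) ≫ f = z ≫ k := by rw [Category.assoc, w]
  have r₁ := hbval Ω _ z e₁ y t₀ h₀.symm
  have r₂ := hbval Ω _ z (e.symm.trans e₁) (tr e y) t₀ (by rw [tr_tr]; exact h₀.symm)
  exact rel_trans f φ hφ (e₁.trans hs.symm) (hs.trans (e.symm.trans e₁).symm)
    (rel_symm f φ hφ (hs.trans e₁.symm) r₁) r₂

omit hφ in
theorem stMap_inv_of_hom {W : Scheme.{u}} {G H : EtDesc.Sh W} (ψ : G ≅ H) {Ω : Type u} [Field Ω] [IsAlgClosed Ω]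
    (ζ : Spec (CommRingCat.of Ω) ⟶ W) {x : St ζ G} {y : St ζ H} (e : stMap ζ ψ.hom x = y) :
    stMap ζ ψ.inv y = x := by
  rw [← e, ← stMap_comp, Iso.hom_inv_id, stMap_id]

/-- Effective descent through a factorisation. -/
theorem isEffective_of_factor {Z P : Scheme.{u}} (s : Z ⟶ X') (h : Z ⟶ P) (e : P ⟶ X) (w : s ≫ f = h ≫ e)
    (hh : EtDesc.IsUnivSubmersive h) (he : EtDesc.IsUnivSubmersive e)
    (hhe : ∀ (F : EtDesc.Sh Z) (φ : (EtDesc.pullSh (pullback.fst h h)).obj F ≅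
      (EtDesc.pullSh (pullback.snd h h)).obj F), EtDesc.IsCocycle F φ → EtDesc.IsEffective h F φ)
    (hee : ∀ (F : EtDesc.Sh P) (φ : (EtDesc.pullSh (pullback.fst e e)).obj F ≅
      (EtDesc.pullSh (pullback.snd e e)).obj F), EtDesc.IsCocycle F φ → EtDesc.IsEffective e F φ) :
    EtDesc.IsEffective f F' φ := by
  obtain ⟨GP, ψ, hψ⟩ := exists_compat h _ (hhe _ _ (isCocycle_restrict f φ s h e w hφ))
  haveI := surjective_of_isUnivSubmersive hh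
  have hw : ∀ {Ω : Type u} [Field Ω] [IsAlgClosed Ω] {z₁ z₂ : Spec (CommRingCat.of Ω) ⟶ Z},
      (z₁ ≫ h) ≫ e = (z₂ ≫ h) ≫ e → (z₁ ≫ s) ≫ f = (z₂ ≫ s) ≫ f := fun {Ω} _ _ {z₁ z₂} ez => by
    simpa only [Category.assoc, w] using ez
  have hcomp : ∀ (Ω : Type u) [Field Ω] [IsAlgClosed Ω] (z₁ z₂ : Spec (CommRingCat.of Ω) ⟶ Z)
      (ez : z₁ ≫ h = z₂ ≫ h) (y : St (z₁ ≫ h) GP) (t₁ : St (z₁ ≫ s) F') (t₂ : St (z₂ ≫ s) F'),
      stMap z₁ ψ.hom (us h z₁ GP y) = us s z₁ F' t₁ → stMap z₂ ψ.hom (us h z₂ GP (tr ez y)) = us s z₂ F' t₂ →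
      Rel f φ (z₁ ≫ s) (z₂ ≫ s) t₁ t₂ := fun Ω _ _ z₁ z₂ ez y t₁ t₂ h₁ h₂ => by
    have r := hψ Ω z₁ z₂ ez y
    rw [h₁, h₂] at r
    exact rel_of_restrict f φ s h e w ez r
  -- the double fibre product over the base
  let a₁ : pullback (h ≫ e) (h ≫ e) ⟶ Z := pullback.fst _ _
  let a₂ : pullback (h ≫ e) (h ≫ e) ⟶ Z := pullback.snd _ _
  have ha : (a₁ ≫ h) ≫ e = (a₂ ≫ h) ≫ e := by simp only [Category.assoc, a₁, a₂, pullback.condition]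
  let q : pullback (h ≫ e) (h ≫ e) ⟶ EtDesc.X2 e := pullback.lift (a₁ ≫ h) (a₂ ≫ h) ha
  have hq₁ : q ≫ pullback.fst e e = a₁ ≫ h := pullback.lift_fst _ _ _
  have hq₂ : q ≫ pullback.snd e e = a₂ ≫ h := pullback.lift_snd _ _ _
  have hq : EtDesc.IsUnivSubmersive q := by
    let m₁ : pullback (h ≫ e) (h ≫ e) ⟶ pullback e (h ≫ e) :=
      pullback.lift (a₁ ≫ h) a₂ (by simp only [Category.assoc, a₁, a₂, pullback.condition])
    let m₂ : pullback e (h ≫ e) ⟶ EtDesc.X2 e :=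
      pullback.lift (pullback.fst _ _) (pullback.snd _ _ ≫ h) (by rw [Category.assoc, pullback.condition])
    have c₁ : IsPullback a₁ m₁ h (pullback.fst e (h ≫ e)) :=
      IsPullback.of_bot
        (by rw [pullback.lift_snd]; exact IsPullback.of_hasPullback (h ≫ e) (h ≫ e))
        (pullback.lift_fst _ _ _).symm (IsPullback.of_hasPullback e (h ≫ e))
    have c₂ : IsPullback (pullback.snd e (h ≫ e)) m₂ h (pullback.snd e e) :=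
      IsPullback.of_bot (by rw [pullback.lift_fst]; exact (IsPullback.of_hasPullback e (h ≫ e)).flip)
        (pullback.lift_snd _ _ _).symm (IsPullback.of_hasPullback e e).flip
    have e' : q = m₁ ≫ m₂ := pullback.hom_ext (by rw [hq₁, Category.assoc, pullback.lift_fst, pullback.lift_fst])
      (by rw [hq₂, Category.assoc, pullback.lift_snd, pullback.lift_snd_assoc])
    rw [e']
    exact isUnivSubmersive_comp (isUnivSubmersive_of_isPullback hh c₁) (isUnivSubmersive_of_isPullback hh c₂)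
  have hc : (a₁ ≫ s) ≫ f = (a₂ ≫ s) ≫ f := by simp only [Category.assoc, w, a₁, a₂, pullback.condition]
  let a : (EtDesc.pullSh q).obj ((EtDesc.pullSh (pullback.fst e e)).obj GP) ≅
      (EtDesc.pullSh q).obj ((EtDesc.pullSh (pullback.snd e e)).obj GP) :=
    EtDesc.pullVia q (pullback.fst e e) (a₁ ≫ h) hq₁ GP ≪≫ (EtDesc.pullVia a₁ h (a₁ ≫ h) rfl GP).symm ≪≫
      (EtDesc.pullSh a₁).mapIso ψ ≪≫ EtDesc.pullVia a₁ s (a₁ ≫ s) rfl F' ≪≫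
      viaIso f φ (pullback.lift (a₁ ≫ s) (a₂ ≫ s) hc) (a₁ ≫ s) (a₂ ≫ s) (pullback.lift_fst _ _ _)
        (pullback.lift_snd _ _ _) ≪≫
      (EtDesc.pullVia a₂ s (a₂ ≫ s) rfl F').symm ≪≫ (EtDesc.pullSh a₂).mapIso ψ.symm ≪≫
      EtDesc.pullVia a₂ h (a₂ ≫ h) rfl GP ≪≫ (EtDesc.pullVia q (pullback.snd e e) (a₂ ≫ h) hq₂ GP).symm
  have hval : ∀ (Ω : Type u) [Field Ω] [IsAlgClosed Ω] (τ : Spec (CommRingCat.of Ω) ⟶ pullback (h ≫ e) (h ≫ e))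
      (e₁ : (τ ≫ q) ≫ pullback.fst e e = (τ ≫ a₁) ≫ h) (e₂ : (τ ≫ q) ≫ pullback.snd e e = (τ ≫ a₂) ≫ h)
      (y₁ : St ((τ ≫ q) ≫ pullback.fst e e) GP) (y₂ : St ((τ ≫ q) ≫ pullback.snd e e) GP)
      (t₁ : St ((τ ≫ a₁) ≫ s) F') (t₂ : St ((τ ≫ a₂) ≫ s) F'),
      stMap _ ψ.hom (us h (τ ≫ a₁) GP (tr e₁ y₁)) = us s (τ ≫ a₁) F' t₁ →
      stMap _ ψ.hom (us h (τ ≫ a₂) GP (tr e₂ y₂)) = us s (τ ≫ a₂) F' t₂ →
      Rel f φ ((τ ≫ a₁) ≫ s) ((τ ≫ a₂) ≫ s) t₁ t₂ →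
      stMap τ a.hom (us q τ _ (us (pullback.fst e e) (τ ≫ q) GP y₁)) =
        us q τ _ (us (pullback.snd e e) (τ ≫ q) GP y₂) := by
    intro Ω _ _ τ e₁ e₂ y₁ y₂ t₁ t₂ h₁ h₂ r
    simp only [a, Iso.trans_hom, Iso.symm_hom, Functor.mapIso_hom]
    rw [stMap_comp, stMap_comp, stMap_comp, stMap_comp, stMap_comp, stMap_comp, stMap_comp, stMap_comp,
      stMap_pullVia]
    have f₁ : (τ ≫ a₁) ≫ h = τ ≫ a₁ ≫ h := Category.assoc _ _ _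
    rw [show tr ((Category.assoc τ q (pullback.fst e e)).trans (congrArg (τ ≫ ·) hq₁)) y₁ = tr f₁ (tr e₁ y₁) by
        rw [tr_tr],
      stMap_pullVia_inv a₁ h _ rfl τ GP _ f₁, us_natural, h₁, stMap_pullVia,
      stMap_viaIso f φ _ _ _ _ _ τ _ _ (rel_tr f φ (Category.assoc τ a₁ s) (Category.assoc τ a₂ s) r),
      stMap_pullVia_inv a₂ s _ rfl τ F' t₂ (Category.assoc _ _ _), us_natural, stMap_inv_of_hom ψ _ h₂,
      stMap_pullVia, tr_tr]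
    exact stMap_pullVia_inv q _ _ hq₂ τ GP y₂ _
  obtain ⟨χ₀, hχ₀⟩ := exists_descended_hom q hq _ _ a.hom (fun Ω _ _ τ τ' eτ x z hx => by
    obtain ⟨y₁, rfl⟩ := (bijective_us (pullback.fst e e) (τ ≫ q) GP).2 x
    have e₁ : (τ ≫ q) ≫ pullback.fst e e = (τ ≫ a₁) ≫ h := by rw [Category.assoc, hq₁, Category.assoc]
    have e₂ : (τ ≫ q) ≫ pullback.snd e e = (τ ≫ a₂) ≫ h := by rw [Category.assoc, hq₂, Category.assoc]
    have e₁' : (τ' ≫ q) ≫ pullback.fst e e = (τ' ≫ a₁) ≫ h := by rw [Category.assoc, hq₁, Category.assoc]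
    have e₂' : (τ' ≫ q) ≫ pullback.snd e e = (τ' ≫ a₂) ≫ h := by rw [Category.assoc, hq₂, Category.assoc]
    have d₁ : (τ ≫ a₁) ≫ h = (τ' ≫ a₁) ≫ h := e₁.symm.trans ((congrArg (· ≫ _) eτ).trans e₁')
    have d₂ : (τ ≫ a₂) ≫ h = (τ' ≫ a₂) ≫ h := e₂.symm.trans ((congrArg (· ≫ _) eτ).trans e₂')
    have da : ((τ ≫ a₁) ≫ s) ≫ f = ((τ ≫ a₂) ≫ s) ≫ f := by simp only [Category.assoc, w, a₁, a₂, pullback.condition]
    have da' : ((τ' ≫ a₁) ≫ s) ≫ f = ((τ' ≫ a₂) ≫ s) ≫ f := by simp only [Category.assoc, w, a₁, a₂, pullback.condition]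
    obtain ⟨t₁, h₁⟩ := (bijective_us s (τ ≫ a₁) F').2 (stMap _ ψ.hom (us h _ GP (tr e₁ y₁)))
    obtain ⟨t₂, r⟩ := rel_exists f φ da t₁
    obtain ⟨v, hv⟩ := ((bijective_stMap_iso _ ψ).comp (bijective_us h (τ ≫ a₂) GP)).2 (us s _ F' t₂)
    let y₂ : St ((τ ≫ q) ≫ pullback.snd e e) GP := tr e₂.symm v
    have h₂ : stMap _ ψ.hom (us h _ GP (tr e₂ y₂)) = us s _ F' t₂ := by
      rw [show tr e₂ y₂ = v by simp only [y₂, tr_tr, tr_rfl]]; exact hv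
    rw [hval Ω τ e₁ e₂ y₁ y₂ t₁ t₂ h₁.symm h₂ r] at hx
    obtain ⟨t₁', h₁'⟩ := (bijective_us s (τ' ≫ a₁) F').2 (stMap _ ψ.hom (us h _ GP (tr d₁ (tr e₁ y₁))))
    obtain ⟨t₂', h₂'⟩ := (bijective_us s (τ' ≫ a₂) F').2 (stMap _ ψ.hom (us h _ GP (tr d₂ (tr e₂ y₂))))
    have r₁ := hcomp Ω _ _ d₁ _ _ _ h₁.symm h₁'.symm
    have r₂ := hcomp Ω _ _ d₂ _ _ _ h₂ h₂'.symm
    have d1s := restrict_eq f s h e w d₁
    have d2s := restrict_eq f s h e w d₂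
    have r' : Rel f φ ((τ' ≫ a₁) ≫ s) ((τ' ≫ a₂) ≫ s) t₁' t₂' :=
      rel_trans f φ hφ (d1s.symm.trans da) d2s (rel_trans f φ hφ d1s.symm da (rel_symm f φ hφ d1s r₁) r) r₂
    rw [← us_tr (pullback.fst e e) eτ GP y₁, ← (bijective_us q τ _).1 hx, ← us_tr (pullback.snd e e) eτ GP y₂]
    refine hval Ω τ' e₁' e₂' _ _ t₁' t₂' ?_ ?_ r'
    · rw [tr_tr]; exact (by rw [h₁', tr_tr])
    · rw [tr_tr]; exact (by rw [h₂', tr_tr]; simp only [y₂, tr_tr]))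
  haveI : IsIso ((EtDesc.pullSh q).map χ₀) := by rw [hχ₀]; infer_instance
  haveI : IsIso χ₀ := by
    haveI := surjective_of_isUnivSubmersive hq
    haveI := (S3047.result q).2
    exact isIso_of_reflects_iso χ₀ (EtDesc.pullSh q)
  let χ := asIso χ₀
  have hχ : ∀ (Ω : Type u) [Field Ω] [IsAlgClosed Ω] (z₁ z₂ : Spec (CommRingCat.of Ω) ⟶ Z)
      (ez : (z₁ ≫ h) ≫ e = (z₂ ≫ h) ≫ e) (y₁ : St (z₁ ≫ h) GP) (y₂ : St (z₂ ≫ h) GP)
      (t₁ : St (z₁ ≫ s) F') (t₂ : St (z₂ ≫ s) F'), stMap z₁ ψ.hom (us h z₁ GP y₁) = us s z₁ F' t₁ →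
      stMap z₂ ψ.hom (us h z₂ GP y₂) = us s z₂ F' t₂ → Rel f φ (z₁ ≫ s) (z₂ ≫ s) t₁ t₂ →
      Rel e χ (z₁ ≫ h) (z₂ ≫ h) y₁ y₂ := by
    intro Ω _ _ z₁ z₂ ez
    obtain ⟨τ, rfl, rfl⟩ : ∃ τ : Spec (CommRingCat.of Ω) ⟶ pullback (h ≫ e) (h ≫ e), τ ≫ a₁ = z₁ ∧ τ ≫ a₂ = z₂ :=
      ⟨pullback.lift z₁ z₂ (by simpa only [Category.assoc] using ez), pullback.lift_fst _ _ _, pullback.lift_snd _ _ _⟩
    intro y₁ y₂ t₁ t₂ h₁ h₂ r
    have e₁ : (τ ≫ q) ≫ pullback.fst e e = (τ ≫ a₁) ≫ h := by rw [Category.assoc, hq₁, Category.assoc]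
    have e₂ : (τ ≫ q) ≫ pullback.snd e e = (τ ≫ a₂) ≫ h := by rw [Category.assoc, hq₂, Category.assoc]
    refine rel_mk e χ _ _ (τ ≫ q) e₁ e₂ y₁ y₂ ((bijective_us q τ _).1 ?_)
    rw [← us_natural, show (EtDesc.pullSh q).map χ.hom = a.hom from hχ₀]
    exact hval Ω τ e₁ e₂ _ _ t₁ t₂ (by rw [tr_tr, tr_rfl]; exact h₁) (by rw [tr_tr, tr_rfl]; exact h₂) r
  have hχ' : ∀ (Ω : Type u) [Field Ω] [IsAlgClosed Ω] (z₁ z₂ : Spec (CommRingCat.of Ω) ⟶ Z)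
      (ez : (z₁ ≫ h) ≫ e = (z₂ ≫ h) ≫ e) (y₁ : St (z₁ ≫ h) GP) (y₂ : St (z₂ ≫ h) GP)
      (t₁ : St (z₁ ≫ s) F') (t₂ : St (z₂ ≫ s) F'), stMap z₁ ψ.hom (us h z₁ GP y₁) = us s z₁ F' t₁ →
      stMap z₂ ψ.hom (us h z₂ GP y₂) = us s z₂ F' t₂ → Rel e χ (z₁ ≫ h) (z₂ ≫ h) y₁ y₂ →
      Rel f φ (z₁ ≫ s) (z₂ ≫ s) t₁ t₂ := by
    intro Ω _ _ z₁ z₂ ez y₁ y₂ t₁ t₂ h₁ h₂ r
    obtain ⟨t, ht⟩ := rel_exists f φ (hw ez) t₁
    obtain ⟨v, hv⟩ := ((bijective_stMap_iso _ ψ).comp (bijective_us h z₂ GP)).2 (us s _ F' t)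
    have hvy := rel_functional e χ ez (hχ Ω z₁ z₂ ez y₁ v t₁ t h₁ hv ht) r
    subst hvy
    rwa [(bijective_us s z₂ F').1 (hv.symm.trans h₂)] at ht
  -- the cocycle condition
  let r₁ : pullback (EtDesc.q1 (f := e)) h ⟶ EtDesc.X3 e := pullback.fst _ _
  let r₂ : pullback (r₁ ≫ EtDesc.q2) h ⟶ pullback (EtDesc.q1 (f := e)) h := pullback.fst _ _
  let r₃ : pullback ((r₂ ≫ r₁) ≫ EtDesc.q3) h ⟶ pullback (r₁ ≫ EtDesc.q2) h := pullback.fst _ _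
  haveI : Surjective r₁ := MorphismProperty.pullback_fst (P := @Surjective) _ _ ‹Surjective h›
  haveI : Surjective r₂ := MorphismProperty.pullback_fst (P := @Surjective) _ _ ‹Surjective h›
  haveI : Surjective r₃ := MorphismProperty.pullback_fst (P := @Surjective) _ _ ‹Surjective h›
  have hcoc : EtDesc.IsCocycle GP χ := by
    refine isCocycle_of_rel_cover e χ (r₃ ≫ r₂ ≫ r₁) fun {Ω} _ _ τ y₁ y₂ y₃ R₁₂ R₂₃ => ?_
    let z₁ := τ ≫ r₃ ≫ r₂ ≫ pullback.snd (EtDesc.q1 (f := e)) h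
    let z₂ := τ ≫ r₃ ≫ pullback.snd (r₁ ≫ EtDesc.q2) h
    let z₃ := τ ≫ pullback.snd ((r₂ ≫ r₁) ≫ EtDesc.q3) h
    have f₁ : (τ ≫ r₃ ≫ r₂ ≫ r₁) ≫ EtDesc.q1 = z₁ ≫ h := by
      simp only [z₁, r₁, Category.assoc, pullback.condition]
    have f₂ : (τ ≫ r₃ ≫ r₂ ≫ r₁) ≫ EtDesc.q2 = z₂ ≫ h := by
      have c := pullback.condition (f := r₁ ≫ EtDesc.q2 (f := e)) (g := h)
      simp only [z₂, r₂, Category.assoc] at c ⊢
      rw [c]
    have f₃ : (τ ≫ r₃ ≫ r₂ ≫ r₁) ≫ EtDesc.q3 = z₃ ≫ h := by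
      have c := pullback.condition (f := (r₂ ≫ r₁) ≫ EtDesc.q3 (f := e)) (g := h)
      simp only [z₃, r₃, Category.assoc] at c ⊢
      rw [c]
    have e₁₂ : (z₁ ≫ h) ≫ e = (z₂ ≫ h) ≫ e := by
      rw [← f₁, ← f₂]
      refine (Category.assoc _ _ _).trans ((congrArg ((τ ≫ r₃ ≫ r₂ ≫ r₁) ≫ ·) ?_).trans (Category.assoc _ _ _).symm)
      show (EtDesc.p12 e ≫ pullback.fst e e) ≫ e = (EtDesc.p12 e ≫ pullback.snd e e) ≫ e
      rw [Category.assoc, Category.assoc, pullback.condition (f := e) (g := e)]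
    have e₂₃ : (z₂ ≫ h) ≫ e = (z₃ ≫ h) ≫ e := by
      rw [← f₂, ← f₃]
      refine (Category.assoc _ _ _).trans ((congrArg ((τ ≫ r₃ ≫ r₂ ≫ r₁) ≫ ·) ?_).trans (Category.assoc _ _ _).symm)
      show (EtDesc.p12 e ≫ pullback.snd e e) ≫ e = (EtDesc.p23 e ≫ pullback.snd e e) ≫ e
      rw [Category.assoc, Category.assoc, pullback.condition_assoc, pullback.condition]
    obtain ⟨t₁, h₁⟩ := (bijective_us s z₁ F').2 (stMap _ ψ.hom (us h z₁ GP (tr f₁ y₁)))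
    obtain ⟨t₂, h₂⟩ := (bijective_us s z₂ F').2 (stMap _ ψ.hom (us h z₂ GP (tr f₂ y₂)))
    obtain ⟨t₃, h₃⟩ := (bijective_us s z₃ F').2 (stMap _ ψ.hom (us h z₃ GP (tr f₃ y₃)))
    have R := hχ Ω z₁ z₃ (e₁₂.trans e₂₃) _ _ t₁ t₃ h₁.symm h₃.symm (rel_trans f φ hφ (hw e₁₂) (hw e₂₃)
      (hχ' Ω z₁ z₂ e₁₂ _ _ t₁ t₂ h₁.symm h₂.symm (rel_tr e χ f₁ f₂ R₁₂))
      (hχ' Ω z₂ z₃ e₂₃ _ _ t₂ t₃ h₂.symm h₃.symm (rel_tr e χ f₂ f₃ R₂₃)))
    have R' := rel_tr e χ f₁.symm f₃.symm R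
    rwa [tr_tr, tr_rfl, tr_tr, tr_rfl] at R'
  obtain ⟨G, β, hβ⟩ := exists_compat e χ (hee GP χ hcoc)
  refine isEffective_of_solution f φ hφ s (h ≫ e) w (isUnivSubmersive_comp hh he) G
    ((EtDesc.pullVia h e (h ≫ e) rfl G).symm ≪≫ (EtDesc.pullSh h).mapIso β ≪≫ ψ) fun Ω _ _ z₁ z₂ ez y t₁ t₂ => ?_
  obtain ⟨y, rfl⟩ : ∃ y' : St ((z₁ ≫ h) ≫ e) G, tr (Category.assoc z₁ h e) y' = y :=
    ⟨tr (Category.assoc z₁ h e).symm y, by rw [tr_tr, tr_rfl]⟩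
  have eh : (z₁ ≫ h) ≫ e = (z₂ ≫ h) ≫ e := by simpa only [Category.assoc] using ez
  rw [tr_tr, show tr ((Category.assoc z₁ h e).trans ez) y = tr (Category.assoc z₂ h e) (tr eh y) by rw [tr_tr]]
  simp only [Iso.trans_hom, Iso.symm_hom, Functor.mapIso_hom]
  rw [stMap_comp, stMap_comp, stMap_pullVia_inv h e (h ≫ e) rfl z₁ G y, us_natural,
    stMap_comp, stMap_comp, stMap_pullVia_inv h e (h ≫ e) rfl z₂ G (tr eh y), us_natural]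
  exact fun h₁ h₂ => hχ' Ω z₁ z₂ eh _ _ t₁ t₂ h₁ h₂ (hβ Ω _ _ eh y)

end Groth.Agent.DescentStalkLib
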