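import Groth.Agent.DescentStalkLib.Factor
import Groth.Agent.DescentStalkLib.Cases
import Groth.Agent.CMSliceLib.Section

/-!
# Effective descent along flat surjective morphisms locally of finite presentation
-/

set_option autoImplicit false
set_option linter.unusedSectionVars false
set_option linter.style.haveILetI false
set_option backward.isDefEq.respectTransparency false
set_option backward.isDefEq.respectTransparency.types false
set_option maxHeartbeats 1000000

universe u

open CategoryTheory CategoryTheory.Limits AlgebraicGeometry Opposite MorphismProperty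

noncomputable section

namespace Groth.Agent.DescentStalkLib

theorem isUnivSubmersive_of_universallyClosed {X' X : Scheme.{u}} (f : X' ⟶ X) [Surjective f] [UniversallyClosed f] :
    EtDesc.IsUnivSubmersive f := fun Y g => by
  haveI := surjective_pullback_snd f Y g
  haveI : UniversallyClosed (pullback.snd f g) := MorphismProperty.pullback_snd _ _ ‹_›
  exact ⟨(pullback.snd f g).surjective, (pullback.snd f g).isClosedMap.isQuotientMap
    (pullback.snd f g).continuous (pullback.snd f g).surjective⟩

theorem isPullback_sigmaMap {ι : Type u} {V S : ι → Scheme.{u}} (π : ∀ i, V i ⟶ S i) (i : ι) :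
    IsPullback (π i) (Sigma.ι V i) (Sigma.ι S i) (Sigma.desc fun i => π i ≫ Sigma.ι S i) := by
  refine IsOpenImmersion.isPullback _ _ _ _ (Sigma.ι_desc _ _) (TopologicalSpace.Opens.ext (Set.ext fun z => ?_))
  obtain ⟨⟨j, x⟩, rfl⟩ := (sigmaMk V).surjective z
  rw [sigmaMk_mk]
  have e : (Sigma.desc fun i => π i ≫ Sigma.ι S i) (Sigma.ι V j x) = Sigma.ι S j (π j x) := by
    rw [← Scheme.Hom.comp_apply, Sigma.ι_desc, Scheme.Hom.comp_apply]
  constructor
  · rintro ⟨y, hy⟩
    rw [e] at hy
    obtain rfl : i = j := congrArg Sigma.fst ((sigmaι_eq_iff _ _ _ _ _).1 hy)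
    exact ⟨x, rfl⟩
  · rintro ⟨y, hy⟩
    obtain rfl : i = j := congrArg Sigma.fst ((sigmaι_eq_iff _ _ _ _ _).1 hy)
    exact ⟨_, e.symm⟩

theorem sigmaMap_of_components (P : MorphismProperty Scheme.{u}) [IsZariskiLocalAtTarget P]
    {ι : Type u} {V S : ι → Scheme.{u}} (π : ∀ i, V i ⟶ S i) (h : ∀ i, P (π i)) :
    P (Sigma.desc fun i => π i ≫ Sigma.ι S i) := by
  refine IsZariskiLocalAtTarget.of_openCover (sigmaOpenCover S) fun i => ?_
  have e := h i
  rw [← (isPullback_sigmaMap π i).flip.isoPullback_hom_snd] at e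
  exact (P.cancel_left_of_respectsIso (isPullback_sigmaMap π i).flip.isoPullback.hom _).1 e

/-- fppf descent of étale sheaves of sets. -/
theorem isEffective_fppf {X' X : Scheme.{u}} (f : X' ⟶ X) [Surjective f] [Flat f] [LocallyOfFinitePresentation f]
    {F' : EtDesc.Sh X'} (φ : (EtDesc.pullSh (pullback.fst f f)).obj F' ≅ (EtDesc.pullSh (pullback.snd f f)).obj F')
    (hφ : EtDesc.IsCocycle F' φ) : EtDesc.IsEffective f F' φ := by
  have hloc : ∀ x : X, ∃ (S V : Scheme.{u}) (e : S ⟶ X) (π : V ⟶ S) (r : V ⟶ X') (y : S),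
      Etale e ∧ e y = x ∧ IsIso (e.residueFieldMap y) ∧ Surjective π ∧ IsFinite π ∧ Flat π ∧
        LocallyOfFinitePresentation π ∧ r ≫ f = π ≫ e := fun x =>
    CMSliceLib.exists_etale_finite_flat_section f x (f.surjective x)
  choose S V e π r y he hy _ hs hfin _ _ hr using hloc
  let h : ∐ V ⟶ ∐ S := Sigma.desc fun x => π x ≫ Sigma.ι S x
  haveI : Surjective h := sigmaMap_of_components @Surjective π hs
  haveI : IsIntegralHom h := sigmaMap_of_components @IsIntegralHom π fun x => by
    haveI := hfin x
    infer_instance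
  haveI : Etale (Sigma.desc e) := IsZariskiLocalAtSource.sigmaDesc (P := @Etale) he
  haveI : Surjective (Sigma.desc e) := ⟨fun x => ⟨Sigma.ι S x (y x), by
    rw [← Scheme.Hom.comp_apply, Sigma.ι_desc]
    exact hy x⟩⟩
  have w : Sigma.desc r ≫ f = h ≫ Sigma.desc e := Sigma.hom_ext _ _ fun x => by simp [h, hr x]
  exact isEffective_of_factor f φ hφ (Sigma.desc r) h (Sigma.desc e) w (isUnivSubmersive_of_universallyClosed h)
    (isUnivSubmersive_of_universallyOpen _) (fun F φ hφ => isEffective_integral h φ hφ)
    (fun F φ hφ => isEffective_etale _ φ hφ)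

end Groth.Agent.DescentStalkLib
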