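import Groth.Agent.DescentStalkLib.Basic
import Groth.Agent.SecPullMono
import Groth.Agent.S3047

/-!
# Sections along universally submersive morphisms
-/

set_option autoImplicit false
set_option linter.unusedSectionVars false
set_option linter.style.haveILetI false
set_option backward.isDefEq.respectTransparency false
set_option backward.isDefEq.respectTransparency.types false
set_option maxHeartbeats 1000000

universe u

open CategoryTheory CategoryTheory.Limits AlgebraicGeometry Opposite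
open Groth.Agent.EtPtsLib Groth.Agent.EtLimLib Groth.Agent.BCVertLib

noncomputable section

namespace Groth.Agent.DescentStalkLib

theorem stMap_canIso {X' X : Scheme.{u}} (f : X' ⟶ X) (F : EtDesc.Sh X) {Ω : Type u} [Field Ω] [IsAlgClosed Ω]
    (ω : Spec (CommRingCat.of Ω) ⟶ EtDesc.X2 f) (y : St ((ω ≫ pullback.fst f f) ≫ f) F)
    (e : (ω ≫ pullback.fst f f) ≫ f = (ω ≫ pullback.snd f f) ≫ f) :
    stMap ω (EtDesc.canIso f F).hom (us (pullback.fst f f) ω _ (us f (ω ≫ pullback.fst f f) F y)) =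
      us (pullback.snd f f) ω _ (us f (ω ≫ pullback.snd f f) F (tr e y)) := by
  have hc : (EtDesc.canIso f F).hom ≫
      (EtDesc.pullVia (pullback.snd f f) f (pullback.fst f f ≫ f) pullback.condition.symm F).hom =
      (EtDesc.pullVia (pullback.fst f f) f (pullback.fst f f ≫ f) rfl F).hom := by
    rw [EtDesc.canIso, Iso.trans_hom, Iso.symm_hom, Category.assoc, Iso.inv_hom_id, Category.comp_id]
  refine (bijective_stMap_iso ω (EtDesc.pullVia (pullback.snd f f) f (pullback.fst f f ≫ f)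
    pullback.condition.symm F)).1 ?_
  rw [← stMap_comp, hc, stMap_pullVia, stMap_pullVia, tr_tr]

section Points

variable {X : Scheme.{u}} {G : EtDesc.Sh X}

/-- A morphism to an étale scheme as a lift. -/
def liftOf {Ω : Type u} [Field Ω] [IsAlgClosed Ω] {B : X.Etale} (γ : Spec (CommRingCat.of Ω) ⟶ B.left) :
    (Scheme.pointSmallEtale (γ ≫ B.hom)).fiber.obj B :=
  Over.homMk γ rfl

@[simp]
theorem liftHom_liftOf {Ω : Type u} [Field Ω] [IsAlgClosed Ω] {B : X.Etale} (γ : Spec (CommRingCat.of Ω) ⟶ B.left) :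
    liftHom (γ ≫ B.hom) (liftOf γ) = γ := rfl

/-- The germ at a geometric point of an étale scheme. -/
abbrev germAt {Ω : Type u} [Field Ω] [IsAlgClosed Ω] {B : X.Etale} (γ : Spec (CommRingCat.of Ω) ⟶ B.left)
    (s : EtDesc.sect G B) : St (γ ≫ B.hom) G :=
  germ (γ ≫ B.hom) G B (liftOf γ) s

theorem mem_agree_iff {Ω : Type u} [Field Ω] [IsAlgClosed Ω] {B : X.Etale} (γ : Spec (CommRingCat.of Ω) ⟶ B.left)
    (s t : EtDesc.sect G B) : γ default ∈ agree G.obj (U := B) s t ↔ germAt γ s = germAt γ t :=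
  (germ_eq_iff_mem_agree (γ ≫ B.hom) G.obj (liftOf γ) s t).symm

theorem eq_of_agree {B : X.Etale} {s t : EtDesc.sect G B} (h : ∀ z, z ∈ agree G.obj (U := B) s t) : s = t := by
  refine sect_eq_of_cover G B s t fun z => ?_
  obtain ⟨W, hW⟩ := Set.mem_iUnion.1 (h z)
  obtain ⟨g, hg⟩ := Set.mem_iUnion.1 hW
  obtain ⟨hst, v, hv⟩ := Set.mem_iUnion.1 hg
  exact ⟨W, g, v, hv, hst⟩

theorem eq_of_germs {B : X.Etale} {s t : EtDesc.sect G B}
    (h : ∀ z : B.left, germAt (geomPtAlg z) s = germAt (geomPtAlg z) t) : s = t :=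
  eq_of_agree fun z => by
    have := (mem_agree_iff (geomPtAlg z) s t).2 (h z)
    rwa [geomPtAlg_default] at this

/-- Sections whose two images in a cokernel pair agree come from a subsheaf. -/
theorem mem_range_of_mono {F H : EtDesc.Sh X} (a : F ⟶ H) [Mono a] {U : X.Etale} (s : EtDesc.sect H U)
    (h : (pushout.inl a a).hom.app (op U) s = (pushout.inr a a).hom.app (op U) s) :
    s ∈ Set.range (a.hom.app (op U)) := by
  have pb := (Adhesive.isPullback_of_isPushout_of_mono_left (IsPushout.of_hasPushout a a)).map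
    (sheafToPresheaf X.smallEtaleTopology (Type (u + 1)) ⋙ (evaluation _ _).obj (op U))
  obtain ⟨r, hr, -⟩ := Types.exists_of_isPullback pb s s h
  exact ⟨r, hr⟩

theorem mem_range_stMap_of_mono {F H : EtDesc.Sh X} (a : F ⟶ H) [Mono a] {Ω : Type u} [Field Ω] [IsAlgClosed Ω]
    (ζ : Spec (CommRingCat.of Ω) ⟶ X) (x : St ζ H) :
    x ∈ Set.range (stMap ζ a) ↔ stMap ζ (pushout.inl a a) x = stMap ζ (pushout.inr a a) x := by
  haveI : AB5OfSize.{u, u} (Type (u + 1)) := AB5OfSize_of_univLE.{u, u, u + 1, u + 1} _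
  constructor
  · rintro ⟨y, rfl⟩
    rw [← stMap_comp, ← stMap_comp, pushout.condition]
  · intro h
    have pb := (Adhesive.isPullback_of_isPushout_of_mono_left (IsPushout.of_hasPushout a a)).map
      ((Scheme.pointSmallEtale ζ).sheafFiber (A := Type (u + 1)))
    obtain ⟨r, hr, -⟩ := Types.exists_of_isPullback pb x x h
    exact ⟨r, hr⟩

theorem injective_stMap_of_mono {F H : EtDesc.Sh X} (a : F ⟶ H) [Mono a] {Ω : Type u} [Field Ω] [IsAlgClosed Ω]
    (ζ : Spec (CommRingCat.of Ω) ⟶ X) : Function.Injective (stMap ζ a) := by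
  haveI : AB5OfSize.{u, u} (Type (u + 1)) := AB5OfSize_of_univLE.{u, u, u + 1, u + 1} _
  haveI : Mono (((Scheme.pointSmallEtale ζ).sheafFiber (A := Type (u + 1))).map a) := inferInstance
  exact (mono_iff_injective _).1 this

end Points

variable {X' X : Scheme.{u}} (f : X' ⟶ X)

theorem isQuotientMap_bcFst (hf : EtDesc.IsUnivSubmersive f) (U : X.Etale) :
    Function.Surjective (bcFst f U) ∧ Topology.IsQuotientMap (bcFst f U) := by
  obtain ⟨hs, hq⟩ := hf U.left U.hom
  let e := pullbackSymmetry U.hom f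
  have he : bcFst f U = e.hom ≫ pullback.snd f U.hom := (pullbackSymmetry_hom_comp_snd U.hom f).symm
  have hb : ⇑(bcFst f U) = ⇑(pullback.snd f U.hom) ∘ ⇑e.hom := funext fun z => by
    rw [he]; rfl
  rw [hb]
  exact ⟨hs.comp e.hom.homeomorph.surjective, hq.comp e.hom.homeomorph.isQuotientMap⟩

theorem pullSh_preservesFiniteLimits : PreservesFiniteLimits (EtDesc.pullSh f) := by
  haveI : PreservesFiniteLimits ((EtCoh.bc f).op.lan : _ ⥤ _ ⥤ Type (u + 1)) :=
    SecPullMono.preservesFiniteLimits_lan (EtCoh.bc f)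
  exact Functor.sheafPullbackConstruction.preservesFiniteLimits (EtCoh.bc f) (Type (u + 1))
    X.smallEtaleTopology X'.smallEtaleTopology

variable {Ω : Type u} [Field Ω] [IsAlgClosed Ω] {U : X.Etale}

/-- The image of a geometric point of a base change. -/
def imPt (γ : Spec (CommRingCat.of Ω) ⟶ ((EtCoh.bc f).obj U).left) :
    (Scheme.pointSmallEtale ((γ ≫ ((EtCoh.bc f).obj U).hom) ≫ f)).fiber.obj U :=
  Over.homMk (γ ≫ bcFst f U) (by
    show (γ ≫ bcFst f U) ≫ U.hom = (γ ≫ ((EtCoh.bc f).obj U).hom) ≫ f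
    rw [Category.assoc, Category.assoc]
    exact congrArg (γ ≫ ·) pullback.condition)

theorem liftBc_imPt (γ : Spec (CommRingCat.of Ω) ⟶ ((EtCoh.bc f).obj U).left) :
    liftBc f (γ ≫ ((EtCoh.bc f).obj U).hom) U (imPt f γ) = liftOf γ :=
  fiber_bc_ext f _ (liftHom_liftBc_fst f _ U (imPt f γ))

theorem germAt_unit (F : EtDesc.Sh X) (γ : Spec (CommRingCat.of Ω) ⟶ ((EtCoh.bc f).obj U).left)
    (s : EtDesc.sect F U) :
    germAt γ (((EtDesc.adjSh f).unit.app F).hom.app (op U) s) = us f _ F (germ _ F U (imPt f γ) s) := by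
  rw [us_germ, liftBc_imPt]

/-- Two geometric points of a base change over the same point of the étale scheme. -/
theorem imPt_eq {γ₁ γ₂ : Spec (CommRingCat.of Ω) ⟶ ((EtCoh.bc f).obj U).left}
    (h : γ₁ ≫ bcFst f U = γ₂ ≫ bcFst f U) :
    (γ₁ ≫ ((EtCoh.bc f).obj U).hom) ≫ f = (γ₂ ≫ ((EtCoh.bc f).obj U).hom) ≫ f :=
  (liftHom_comp _ (imPt f γ₁)).symm.trans ((congrArg (· ≫ U.hom) h).trans (liftHom_comp _ (imPt f γ₂)))

theorem tr_germ_imPt (F : EtDesc.Sh X) {γ₁ γ₂ : Spec (CommRingCat.of Ω) ⟶ ((EtCoh.bc f).obj U).left}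
    (h : γ₁ ≫ bcFst f U = γ₂ ≫ bcFst f U) (s : EtDesc.sect F U) :
    tr (imPt_eq f h) (germ _ F U (imPt f γ₁) s) = germ _ F U (imPt f γ₂) s :=
  tr_germ _ F U _ _ h.symm s

/-- A subset of a base change stable along the fibres and open is the inverse image of an open. -/
theorem exists_opens_of_saturated (hf : EtDesc.IsUnivSubmersive f) {U : X.Etale}
    (A : Set ((EtCoh.bc f).obj U).left) (hA : IsOpen A)
    (h : ∀ (Ω : Type u) [Field Ω] [IsAlgClosed Ω] (γ₁ γ₂ : Spec (CommRingCat.of Ω) ⟶ ((EtCoh.bc f).obj U).left),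
      γ₁ ≫ bcFst f U = γ₂ ≫ bcFst f U → γ₁ default ∈ A → γ₂ default ∈ A) :
    ∃ O : U.left.Opens, ∀ z, z ∈ A ↔ bcFst f U z ∈ O := by
  have key : A = bcFst f U ⁻¹' (bcFst f U '' A) := by
    refine Set.Subset.antisymm (Set.subset_preimage_image _ _) ?_
    rintro z ⟨z₁, hz₁, e⟩
    obtain ⟨q, hq₁, hq₂⟩ := Scheme.Pullback.exists_preimage_pullback (f := bcFst f U) (g := bcFst f U) z₁ z e
    have h1 : (geomPtAlg q ≫ pullback.fst _ _) default = z₁ := by rw [Scheme.Hom.comp_apply, geomPtAlg_default, hq₁]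
    have h2 : (geomPtAlg q ≫ pullback.snd _ _) default = z := by rw [Scheme.Hom.comp_apply, geomPtAlg_default, hq₂]
    rw [← h2]
    refine h _ (geomPtAlg q ≫ pullback.fst _ _) (geomPtAlg q ≫ pullback.snd _ _) ?_ (by rwa [h1])
    rw [Category.assoc, Category.assoc, pullback.condition]
  refine ⟨⟨bcFst f U '' A, (isQuotientMap_bcFst f hf U).2.isOpen_preimage.1 (key ▸ hA)⟩, fun z => ?_⟩
  exact Set.ext_iff.1 key z

section Descend

variable (hf : EtDesc.IsUnivSubmersive f) (F : EtDesc.Sh X)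

include hf

theorem injective_unit_app (U : X.Etale) :
    Function.Injective (((EtDesc.adjSh f).unit.app F).hom.app (op U)) := fun s t h => eq_of_agree fun v => by
  obtain ⟨z, rfl⟩ := (isQuotientMap_bcFst f hf U).1 v
  have h1 := congrArg (germAt (geomPtAlg z)) h
  rw [germAt_unit, germAt_unit] at h1
  have h2 := (germ_eq_iff_mem_agree _ F.obj (imPt f (geomPtAlg z)) s t).1 ((bijective_us f _ F).1 h1)
  change (geomPtAlg z ≫ bcFst f U) default ∈ _ at h2
  rwa [Scheme.Hom.comp_apply, geomPtAlg_default] at h2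

/-- The germs of a section of the inverse image are constant along the fibres. -/
def Coherent (U : X.Etale) (s : EtDesc.sect ((EtDesc.pullSh f).obj F) ((EtCoh.bc f).obj U)) : Prop :=
  ∀ (Ω : Type u) [Field Ω] [IsAlgClosed Ω] (γ₁ γ₂ : Spec (CommRingCat.of Ω) ⟶ ((EtCoh.bc f).obj U).left)
    (h : γ₁ ≫ bcFst f U = γ₂ ≫ bcFst f U) (t : St ((γ₁ ≫ ((EtCoh.bc f).obj U).hom) ≫ f) F),
    us f _ F t = germAt γ₁ s → us f _ F (tr (imPt_eq f h) t) = germAt γ₂ s

omit hf in
theorem coherent_unit (U : X.Etale) (s : EtDesc.sect F U) :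
    Coherent f F U (((EtDesc.adjSh f).unit.app F).hom.app (op U) s) := fun Ω _ _ γ₁ γ₂ h t ht => by
  rw [germAt_unit] at ht ⊢
  rw [(bijective_us f _ F).1 ht, tr_germ_imPt f F h]

/-- A coherent section is, near every point, the inverse image of a section. -/
theorem exists_local_preimage {U : X.Etale} {s : EtDesc.sect ((EtDesc.pullSh f).obj F) ((EtCoh.bc f).obj U)}
    (hs : Coherent f F U s) (v : U.left) :
    ∃ (V : X.Etale) (k : V ⟶ U) (w : V.left) (t : EtDesc.sect F V), k.left w = v ∧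
      ((EtDesc.adjSh f).unit.app F).hom.app (op V) t = ((EtDesc.pullSh f).obj F).obj.map ((EtCoh.bc f).map k).op s := by
  obtain ⟨z, rfl⟩ := (isQuotientMap_bcFst f hf U).1 v
  let γ := geomPtAlg z
  let ζ := γ ≫ ((EtCoh.bc f).obj U).hom
  let η := ζ ≫ f
  obtain ⟨x, hx⟩ := (bijective_us f ζ F).2 (germAt γ s)
  obtain ⟨V₀, l₀, t₀, rfl⟩ := exists_germ x
  let D₁ := (Scheme.pointSmallEtale η).fiber.elementsMk V₀ l₀
  let D₂ := (Scheme.pointSmallEtale η).fiber.elementsMk U (imPt f γ)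
  haveI := (Scheme.pointSmallEtale η).isCofiltered
  obtain ⟨⟨V, m⟩, a₁, a₂, -⟩ := IsCofilteredOrEmpty.cone_objs D₁ D₂
  let i : V ⟶ V₀ := a₁.1
  let k : V ⟶ U := a₂.1
  have hi : (Scheme.pointSmallEtale η).fiber.map i m = l₀ := a₁.2
  have hk : (Scheme.pointSmallEtale η).fiber.map k m = imPt f γ := a₂.2
  let t := F.obj.map i.op t₀
  let r := ((EtDesc.pullSh f).obj F).obj.map ((EtCoh.bc f).map k).op s
  let u := ((EtDesc.adjSh f).unit.app F).hom.app (op V) t
  let A := agree ((EtDesc.pullSh f).obj F).obj (U := (EtCoh.bc f).obj V) u r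
  have hgerm : ∀ {Ω : Type u} [Field Ω] [IsAlgClosed Ω] (δ : Spec (CommRingCat.of Ω) ⟶ ((EtCoh.bc f).obj V).left)
      (e : δ ≫ ((EtCoh.bc f).obj V).hom = (δ ≫ ((EtCoh.bc f).map k).left) ≫ ((EtCoh.bc f).obj U).hom),
      δ default ∈ A ↔ us f _ F (tr (congrArg (· ≫ f) e) (germ _ F V (imPt f δ) t)) =
        germAt (δ ≫ ((EtCoh.bc f).map k).left) s := by
    intro Ω _ _ δ e
    rw [show (δ default ∈ A) ↔ _ from mem_agree_iff δ u r, germAt_unit, us_tr f e]
    have hr : tr e (germAt δ r) = germAt (δ ≫ ((EtCoh.bc f).map k).left) s := by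
      rw [germAt, germ_res]
      exact tr_germ e _ _ _ (liftOf _) (liftHom_map (δ ≫ ((EtCoh.bc f).obj V).hom) ((EtCoh.bc f).map k) (liftOf δ)).symm s
    rw [← hr]
    exact ⟨fun h => congrArg (tr e) h, fun h => by
      have := congrArg (tr e.symm) h
      rwa [tr_tr, tr_rfl, tr_tr, tr_rfl] at this⟩
  have e0 : ∀ {Ω : Type u} [Field Ω] [IsAlgClosed Ω] (δ : Spec (CommRingCat.of Ω) ⟶ ((EtCoh.bc f).obj V).left),
      δ ≫ ((EtCoh.bc f).obj V).hom = (δ ≫ ((EtCoh.bc f).map k).left) ≫ ((EtCoh.bc f).obj U).hom := fun δ => by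
    rw [Category.assoc]
    exact congrArg (δ ≫ ·) (MorphismProperty.Over.w ((EtCoh.bc f).map k)).symm
  have hsat : ∀ (Ω : Type u) [Field Ω] [IsAlgClosed Ω] (δ₁ δ₂ : Spec (CommRingCat.of Ω) ⟶ ((EtCoh.bc f).obj V).left),
      δ₁ ≫ bcFst f V = δ₂ ≫ bcFst f V → δ₁ default ∈ A → δ₂ default ∈ A := by
    intro Ω _ _ δ₁ δ₂ h12 h1
    rw [hgerm δ₁ (e0 δ₁)] at h1
    rw [hgerm δ₂ (e0 δ₂)]
    have hU : (δ₁ ≫ ((EtCoh.bc f).map k).left) ≫ bcFst f U = (δ₂ ≫ ((EtCoh.bc f).map k).left) ≫ bcFst f U := by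
      rw [Category.assoc, Category.assoc, bcFst_map, reassoc_of% h12]
    have h2 := hs Ω _ _ hU _ h1
    rw [← h2, tr_tr, ← tr_germ_imPt f F h12, tr_tr]
  let δ₀ : Spec (CommRingCat.of (AlgebraicClosure (((EtCoh.bc f).obj U).left.residueField z))) ⟶
      ((EtCoh.bc f).obj V).left := pullback.lift (liftHom η m) ζ (liftHom_comp η m)
  have hδ₀ : δ₀ ≫ ((EtCoh.bc f).map k).left = γ := by
    have hk' : liftHom η m ≫ k.left = γ ≫ bcFst f U := (liftHom_map η k m).symm.trans (congrArg (liftHom η) hk)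
    refine pullback.hom_ext ?_ ?_
    · refine (Category.assoc _ _ _).trans ?_
      refine (congrArg (δ₀ ≫ ·) (bcFst_map f k)).trans ?_
      rw [bcFst, pullback.lift_fst_assoc]
      exact hk'
    · refine (Category.assoc _ _ _).trans ?_
      refine (congrArg (δ₀ ≫ ·) (MorphismProperty.Over.w ((EtCoh.bc f).map k))).trans ?_
      exact pullback.lift_snd _ _ _
  have hmem : δ₀ default ∈ A := by
    rw [hgerm δ₀ (e0 δ₀)]
    have hx' : us f ζ F (germ η F V m t) = germAt γ s := by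
      rw [← hx]
      refine congrArg (us f ζ F) ?_
      show germ η F V m (F.obj.map i.op t₀) = _
      rw [germ_res, hi]
    have e1 : δ₀ ≫ ((EtCoh.bc f).obj V).hom = ζ := pullback.lift_snd _ _ _
    have h3 : ∀ (γ' : Spec (CommRingCat.of _) ⟶ ((EtCoh.bc f).obj U).left) (hγ : γ' = γ)
        (e : δ₀ ≫ ((EtCoh.bc f).obj V).hom = γ' ≫ ((EtCoh.bc f).obj U).hom),
        us f _ F (tr (congrArg (· ≫ f) e) (germ _ F V (imPt f δ₀) t)) = germAt γ' s := by
      rintro _ rfl e
      rw [tr_germ (congrArg (· ≫ f) e) F V (imPt f δ₀) m (pullback.lift_fst _ _ _).symm t]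
      exact hx'
    exact h3 _ hδ₀ (e0 δ₀)
  obtain ⟨O, hO⟩ := exists_opens_of_saturated f hf A (isOpen_agree _ _ _) hsat
  refine ⟨openSub V O, openIncl V O ≫ k, ⟨_, (hO _).1 hmem⟩, F.obj.map (openIncl V O).op t, ?_, ?_⟩
  · show (O.ι ≫ k.left) _ = _
    rw [Scheme.Hom.comp_apply]
    show k.left (bcFst f V (δ₀ default)) = bcFst f U z
    rw [← Scheme.Hom.comp_apply, ← bcFst_map, Scheme.Hom.comp_apply, ← Scheme.Hom.comp_apply δ₀, hδ₀,
      geomPtAlg_default]
  · rw [Functor.map_comp, op_comp, Functor.map_comp_apply]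
    let u₀ : F ⟶ (EtDesc.pushSh f).obj ((EtDesc.pullSh f).obj F) := (EtDesc.adjSh f).unit.app F
    refine (NatTrans.naturality_apply u₀.hom (openIncl V O).op t).trans ?_
    refine eq_of_agree (B := (EtCoh.bc f).obj (openSub V O)) (G := (EtDesc.pullSh f).obj F) fun w => ?_
    have hw : ((EtCoh.bc f).map (openIncl V O)).left w ∈ A := by
      rw [hO, ← Scheme.Hom.comp_apply, bcFst_map, Scheme.Hom.comp_apply]
      exact (bcFst f (openSub V O) w : O.toScheme).2
    let δ := geomPtAlg w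
    have h0 : ∀ x : EtDesc.sect ((EtDesc.pullSh f).obj F) ((EtCoh.bc f).obj V),
        germAt δ (((EtDesc.pullSh f).obj F).obj.map ((EtCoh.bc f).map (openIncl V O)).op x) =
          germ _ _ _ ((Scheme.pointSmallEtale _).fiber.map ((EtCoh.bc f).map (openIncl V O)) (liftOf δ)) x :=
      fun x => germ_res _ _ _ _ x
    have hw' : germ _ _ _ ((Scheme.pointSmallEtale _).fiber.map ((EtCoh.bc f).map (openIncl V O)) (liftOf δ)) u =
        germ _ _ _ ((Scheme.pointSmallEtale _).fiber.map ((EtCoh.bc f).map (openIncl V O)) (liftOf δ)) r := by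
      refine (germ_eq_iff_mem_agree (δ ≫ ((EtCoh.bc f).obj (openSub V O)).hom) ((EtDesc.pullSh f).obj F).obj _ u r).2 ?_
      rw [liftHom_map, liftHom_liftOf, Scheme.Hom.comp_apply, geomPtAlg_default]
      exact hw
    have h2 := (mem_agree_iff δ _ _).2 ((h0 u).trans (hw'.trans (h0 r).symm))
    rwa [geomPtAlg_default] at h2

/-- The inverse image map is a bijection onto the coherent sections. -/
theorem mem_range_unit {U : X.Etale} {s : EtDesc.sect ((EtDesc.pullSh f).obj F) ((EtCoh.bc f).obj U)}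
    (hs : Coherent f F U s) : s ∈ Set.range (((EtDesc.adjSh f).unit.app F).hom.app (op U)) := by
  let u : F ⟶ (EtDesc.pushSh f).obj ((EtDesc.pullSh f).obj F) := (EtDesc.adjSh f).unit.app F
  let R : Sieve U :=
    { arrows := fun V k => ((EtDesc.pullSh f).obj F).obj.map ((EtCoh.bc f).map k).op s ∈ Set.range (u.hom.app (op V))
      downward_closed := fun {V V' k} ⟨t, ht⟩ g => ⟨F.obj.map g.op t, by
        rw [NatTrans.naturality_apply u.hom g.op t, ht]
        show ((EtDesc.pullSh f).obj F).obj.map ((EtCoh.bc f).map g).op _ = _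
        rw [← Functor.map_comp_apply, ← op_comp, ← Functor.map_comp]⟩ }
  have hR : R ∈ X.smallEtaleTopology U := covering_of_points _ fun v => by
    obtain ⟨V, k, w, t, hw, ht⟩ := exists_local_preimage f hf F hs v
    exact ⟨V, k, w, ⟨t, ht⟩, hw⟩
  have hF := (isSheaf_iff_isSheaf_of_type _ _).1 F.property _ hR
  let x : Presieve.FamilyOfElements F.obj R.arrows := fun V k hk => hk.choose
  have hx : ∀ {V : X.Etale} (k : V ⟶ U) (hk : R k),
      u.hom.app (op V) (x k hk) = ((EtDesc.pullSh f).obj F).obj.map ((EtCoh.bc f).map k).op s :=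
    fun k hk => hk.choose_spec
  have hc : x.Compatible := by
    intro Y₁ Y₂ Z b₁ b₂ f₁ f₂ h₁ h₂ e
    refine injective_unit_app f hf F Z ?_
    show u.hom.app (op Z) _ = u.hom.app (op Z) _
    rw [NatTrans.naturality_apply u.hom b₁.op, NatTrans.naturality_apply u.hom b₂.op, hx f₁ h₁, hx f₂ h₂]
    show ((EtDesc.pullSh f).obj F).obj.map ((EtCoh.bc f).map b₁).op _ =
      ((EtDesc.pullSh f).obj F).obj.map ((EtCoh.bc f).map b₂).op _
    rw [← Functor.map_comp_apply, ← Functor.map_comp_apply, ← op_comp, ← op_comp, ← Functor.map_comp,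
      ← Functor.map_comp, e]
  refine ⟨hF.amalgamate x hc, ?_⟩
  have hsep := ((isSheaf_iff_isSheaf_of_type _ _).1
    ((EtDesc.pushSh f).obj ((EtDesc.pullSh f).obj F)).property).isSeparated
  refine (hsep _ hR).ext fun V g hg => ?_
  show ((EtDesc.pushSh f).obj ((EtDesc.pullSh f).obj F)).obj.map g.op (u.hom.app (op U) _) = _
  rw [← NatTrans.naturality_apply u.hom g.op, hF.valid_glue hc g hg, hx g hg]
  rfl

end Descend

end Groth.Agent.DescentStalkLib

namespace Groth.Agent.DescentStalkLib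

section Top

variable {Ω : Type u} [Field Ω] [IsAlgClosed Ω] {X Y : Scheme.{u}}

/-- The lift of a point to the terminal object. -/
def liftTop (ζ : Spec (CommRingCat.of Ω) ⟶ X) : (Scheme.pointSmallEtale ζ).fiber.obj (EtCoh.top X) :=
  Over.homMk ζ (Category.comp_id ζ)

theorem liftTop_eq (ζ : Spec (CommRingCat.of Ω) ⟶ X) (l : (Scheme.pointSmallEtale ζ).fiber.obj (EtCoh.top X)) :
    l = liftTop ζ :=
  Over.OverMorphism.ext ((Category.comp_id _).symm.trans (liftHom_comp ζ l))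

theorem tr_germTop {G : EtDesc.Sh X} {ζ ζ' : Spec (CommRingCat.of Ω) ⟶ X} (e : ζ = ζ')
    (s : EtDesc.sect G (EtCoh.top X)) :
    tr e (germ ζ G (EtCoh.top X) (liftTop ζ) s) = germ ζ' G (EtCoh.top X) (liftTop ζ') s := by
  subst e; rfl

theorem germ_secPull (g : Y ⟶ X) (G : EtDesc.Sh X) (s : EtDesc.sect G (EtCoh.top X))
    (ω : Spec (CommRingCat.of Ω) ⟶ Y) :
    germ ω ((EtDesc.pullSh g).obj G) (EtCoh.top Y) (liftTop ω) (EtDesc.secPull g G s) =
      us g ω G (germ (ω ≫ g) G (EtCoh.top X) (liftTop (ω ≫ g)) s) := by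
  rw [us_germ]
  refine (germ_res ω ((EtDesc.pullSh g).obj G) (EtCore.bcTopIso g).inv (liftTop ω) _).trans ?_
  refine congrArg (fun m => germ ω ((EtDesc.pullSh g).obj G) _ m _) ?_
  refine fiber_bc_ext g ω ?_
  rw [liftHom_liftBc_fst]
  exact (((Category.comp_id _).symm.trans ((Category.assoc _ _ _).trans
    (congrArg (liftHom ω _ ≫ ·) (pullback.condition.trans rfl)))).trans
      ((Category.assoc _ _ _).symm.trans (congrArg (· ≫ g) (liftHom_comp ω _))))

end Top

section Translate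

variable {X' X : Scheme.{u}} (f : X' ⟶ X) {Ω : Type u} [Field Ω] [IsAlgClosed Ω]

/-- Germs matched by the canonical descent datum. -/
theorem eq_of_canIso (F : EtDesc.Sh X) {ζ₁ ζ₂ : Spec (CommRingCat.of Ω) ⟶ X'} (h : ζ₁ ≫ f = ζ₂ ≫ f)
    (t : St (ζ₁ ≫ f) F) (x₁ : St ζ₁ ((EtDesc.pullSh f).obj F)) (x₂ : St ζ₂ ((EtDesc.pullSh f).obj F))
    (hx : us f ζ₁ F t = x₁)
    (hω : ∀ (ω : Spec (CommRingCat.of Ω) ⟶ EtDesc.X2 f) (e₁ : ω ≫ pullback.fst f f = ζ₁)
      (e₂ : ω ≫ pullback.snd f f = ζ₂),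
      stMap ω (EtDesc.canIso f F).hom (us (pullback.fst f f) ω _ (tr e₁.symm x₁)) =
        us (pullback.snd f f) ω _ (tr e₂.symm x₂)) :
    us f ζ₂ F (tr h t) = x₂ := by
  obtain ⟨ω, e₁, e₂⟩ : ∃ ω : Spec (CommRingCat.of Ω) ⟶ EtDesc.X2 f,
      ω ≫ pullback.fst f f = ζ₁ ∧ ω ≫ pullback.snd f f = ζ₂ :=
    ⟨pullback.lift ζ₁ ζ₂ h, pullback.lift_fst _ _ _, pullback.lift_snd _ _ _⟩
  subst e₁; subst e₂
  have h1 := hω ω rfl rfl
  rw [← hx] at h1
  exact (bijective_us (pullback.snd f f) ω _).1 ((stMap_canIso f F ω t h).symm.trans h1)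

end Translate

end Groth.Agent.DescentStalkLib
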