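import Groth.Agent.DescentStalkLib.Core
import Groth.Agent.DescentStalkLib.UnivSub
import Groth.Agent.ZeroAcycLib.AcycBC

/-!
# Effective descent along universally submersive morphisms with base change of direct images

If `f` is universally submersive, open sets containing whole fibres spread and the direct image commutes with the
base change along `f` itself, every descent datum of sheaves of sets along `f` is effective.
-/

set_option autoImplicit false
set_option linter.unusedSectionVars false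
set_option linter.style.haveILetI false
set_option backward.isDefEq.respectTransparency false
set_option backward.isDefEq.respectTransparency.types false
set_option maxHeartbeats 1000000

universe u

open CategoryTheory CategoryTheory.Limits AlgebraicGeometry Opposite
open Groth.Agent.EtPtsLib Groth.Agent.StrictLocLib

noncomputable section

namespace Groth.Agent.DescentStalkLib

section Agree

variable {Y X : Scheme.{u}} (p : Y ⟶ X) {Ω : Type u} [Field Ω] [IsAlgClosed Ω]

/-- Germs of a direct image agree when the sections agree over a neighbourhood. -/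
theorem germ_push_eq (η : Spec (CommRingCat.of Ω) ⟶ X) (G : EtDesc.Sh Y) (U : X.Etale)
    (l : (Scheme.pointSmallEtale η).fiber.obj U) (s s' : EtDesc.sect G ((EtCoh.bc p).obj U)) (O : U.left.Opens)
    (hl : liftHom η l default ∈ O)
    (h : ∀ z, bcFst p U z ∈ O → z ∈ agree G.obj (U := (EtCoh.bc p).obj U) s s') :
    germ η ((EtDesc.pushSh p).obj G) U l s = germ η ((EtDesc.pushSh p).obj G) U l s' := by
  obtain ⟨lO, hlO⟩ := exists_fiber_map_eq η (openIncl U O) l (⟨_, hl⟩ : O.toScheme) rfl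
  let o := (EtCoh.bc p).map (openIncl U O)
  have e : G.obj.map o.op s = G.obj.map o.op s' := eq_of_germs fun w => by
    have hw : o.left w ∈ agree G.obj (U := (EtCoh.bc p).obj U) s s' := by
      refine h _ ?_
      rw [← Scheme.Hom.comp_apply, bcFst_map, Scheme.Hom.comp_apply]
      exact (bcFst p (openSub U O) w : O.toScheme).2
    let δ := geomPtAlg w
    have hw' := (germ_eq_iff_mem_agree (δ ≫ ((EtCoh.bc p).obj (openSub U O)).hom) G.obj
      ((Scheme.pointSmallEtale _).fiber.map o (liftOf δ)) s s').2 (by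
        rw [liftHom_map, liftHom_liftOf, Scheme.Hom.comp_apply, geomPtAlg_default]
        exact hw)
    exact (germ_res _ G o (liftOf δ) s).trans (hw'.trans (germ_res _ G o (liftOf δ) s').symm)
  rw [← hlO, ← germ_res, ← germ_res]
  exact congrArg (germ η ((EtDesc.pushSh p).obj G) (openSub U O) lO) e

/-- A germ of a direct image at a geometric point of the base change. -/
theorem germAt_eq_ev {U : X.Etale} {G : EtDesc.Sh Y} (γ : Spec (CommRingCat.of Ω) ⟶ ((EtCoh.bc p).obj U).left)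
    (η : Spec (CommRingCat.of Ω) ⟶ X) (l : (Scheme.pointSmallEtale η).fiber.obj U)
    (hη : (γ ≫ ((EtCoh.bc p).obj U).hom) ≫ p = η) (hl : liftHom η l = γ ≫ bcFst p U)
    (s : EtDesc.sect G ((EtCoh.bc p).obj U)) :
    germAt γ s = ev p η ⟨γ ≫ ((EtCoh.bc p).obj U).hom, hη⟩ G (germ η ((EtDesc.pushSh p).obj G) U l s) := by
  rw [ev_germ]
  refine congrArg (fun m => germ _ G _ m s) (fiber_bc_ext p _ ?_)
  exact ((liftHom_liftBcAt_fst p η ⟨_, hη⟩ U l).trans hl).symm

end Agree

variable {X' X : Scheme.{u}} (f : X' ⟶ X) {F' : EtDesc.Sh X'}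
  (φ : (EtDesc.pullSh (pullback.fst f f)).obj F' ≅ (EtDesc.pullSh (pullback.snd f f)).obj F')
  {Ω : Type u} [Field Ω] [IsAlgClosed Ω]

/-- The square of the double fibre product. -/
theorem sqFlip : IsPullback (pullback.snd f f) (pullback.fst f f) f f := (IsPullback.of_hasPullback f f).flip

/-- The transpose of the descent datum. -/
def datumT : F' ⟶ (EtDesc.pushSh (pullback.fst f f)).obj ((EtDesc.pullSh (pullback.snd f f)).obj F') :=
  (EtDesc.adjSh (pullback.fst f f)).homEquiv _ _ φ.hom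

/-- The base change map on stalks. -/
abbrev bcSt (ζ : Spec (CommRingCat.of Ω) ⟶ X') :
    St (ζ ≫ f) ((EtDesc.pushSh f).obj F') →
      St ζ ((EtDesc.pushSh (pullback.fst f f)).obj ((EtDesc.pullSh (pullback.snd f f)).obj F')) :=
  bcStalk f f (pullback.fst f f) (pullback.snd f f) ζ F'
    (EtBC.baseChange0Sh f f (pullback.fst f f) (pullback.snd f f) (sqFlip f).w F')

/-- An element of the stalk of the direct image matched with a germ is related to it along the fibre. -/
theorem rel_of_bc (ζ : Spec (CommRingCat.of Ω) ⟶ X') (t : St ζ F') (x : St (ζ ≫ f) ((EtDesc.pushSh f).obj F'))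
    (h1 : bcSt f ζ x = stMap ζ (datumT f φ) t) (ζ' : EtaleSplit.GPts f (ζ ≫ f)) :
    Rel f φ ζ ζ'.1 t (ev f _ ζ' F' x) := by
  let ω : Spec (CommRingCat.of Ω) ⟶ EtDesc.X2 f := pullback.lift ζ ζ'.1 ζ'.2.symm
  have e₁ : ω ≫ pullback.fst f f = ζ := pullback.lift_fst _ _ _
  have e₂ : ω ≫ pullback.snd f f = ζ'.1 := pullback.lift_snd _ _ _
  refine rel_mk f φ ζ ζ'.1 ω e₁ e₂ t _ ?_
  have h2 := bcStalk_comm_apply f f (pullback.fst f f) (pullback.snd f f) (sqFlip f) ζ F' _
    (isBC_sh f f (pullback.fst f f) (pullback.snd f f) (sqFlip f) F') ⟨ω, e₁⟩ x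
  rw [show bcStalk f f (pullback.fst f f) (pullback.snd f f) ζ F' _ x = _ from h1] at h2
  have h3 := stMap_transpose (pullback.fst f f) (datumT f φ) ζ ⟨ω, e₁⟩ t
  rw [datumT, Equiv.symm_apply_apply] at h3
  refine h3.trans (Eq.trans h2 ?_)
  refine congrArg (us (pullback.snd f f) ω F') ?_
  exact (ev_eq f (ζ := ζ')
    (ζ' := gptImage f f (pullback.fst f f) (pullback.snd f f) (sqFlip f) ζ ⟨ω, e₁⟩) e₂.symm F' x).symm

theorem rel_of_section (U : X.Etale) (σ : EtDesc.sect (desc f φ) U)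
    (γ₁ γ₂ : Spec (CommRingCat.of Ω) ⟶ ((EtCoh.bc f).obj U).left) (h : γ₁ ≫ bcFst f U = γ₂ ≫ bcFst f U) :
    Rel f φ (γ₁ ≫ ((EtCoh.bc f).obj U).hom) (γ₂ ≫ ((EtCoh.bc f).obj U).hom)
      (germAt γ₁ ((equalizer.ι (descMapA f F') (descMapB f φ)).hom.app (op U) σ))
      (germAt γ₂ ((equalizer.ι (descMapA f F') (descMapB f φ)).hom.app (op U) σ)) := by
  let η := (γ₁ ≫ ((EtCoh.bc f).obj U).hom) ≫ f
  let l := imPt f γ₁
  rw [germAt_eq_ev f γ₁ η l rfl rfl, germAt_eq_ev f γ₂ η l (imPt_eq f h).symm h, ← stMap_germ]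
  exact rel_of_eq f φ η _ (equalizes_ι f φ η _) ⟨_, rfl⟩ ⟨_, (imPt_eq f h).symm⟩

variable (hφ : EtDesc.IsCocycle F' φ) (hf : EtDesc.IsUnivSubmersive f)
  (hsp : Spreads (pullback.fst f f ≫ f) f)
  (hbc : IsIso (EtBC.baseChange0Sh f f (pullback.fst f f) (pullback.snd f f) (sqFlip f).w F'))

include hf in
theorem injective_descHom (ζ : Spec (CommRingCat.of Ω) ⟶ X') (a b : St (ζ ≫ f) (desc f φ))
    (h : ev f _ ⟨ζ, rfl⟩ F' (stMap (ζ ≫ f) (equalizer.ι _ _) a) =
      ev f _ ⟨ζ, rfl⟩ F' (stMap (ζ ≫ f) (equalizer.ι _ _) b)) : a = b := by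
  obtain ⟨U, l, σ, σ', rfl, rfl⟩ :=
    (Scheme.pointSmallEtale (ζ ≫ f)).toPresheafFiber_jointly_surjective₂ (P := (desc f φ).obj) a b
  let i := equalizer.ι (descMapA f F') (descMapB f φ)
  let A : Set ((EtCoh.bc f).obj U).left := agree F'.obj (U := (EtCoh.bc f).obj U) (i.hom.app (op U) σ)
    (i.hom.app (op U) σ')
  obtain ⟨O, hO⟩ := exists_opens_of_saturated f hf A (isOpen_agree _ _ _) fun Ω _ _ γ₁ γ₂ h12 h1 => by
    have h1' := (mem_agree_iff γ₁ _ _).1 h1
    have r := rel_of_section f φ U σ γ₁ γ₂ h12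
    rw [show germAt γ₁ ((equalizer.ι (descMapA f F') (descMapB f φ)).hom.app (op U) σ) = _ from h1'] at r
    exact (mem_agree_iff γ₂ _ _).2 (rel_functional f φ (imPt_eq f h12) r (rel_of_section f φ U σ' γ₁ γ₂ h12))
  change ev f _ _ F' (stMap _ i (germ (ζ ≫ f) (equalizer (descMapA f F') (descMapB f φ)) U l σ)) =
    ev f _ _ F' (stMap _ i (germ (ζ ≫ f) (equalizer (descMapA f F') (descMapB f φ)) U l σ')) at h
  rw [stMap_germ, stMap_germ, ev_germ, ev_germ] at h
  have h0 := (germ_eq_iff_mem_agree ζ F'.obj _ _ _).1 h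
  have hl : liftHom (ζ ≫ f) l default ∈ O := by
    rw [← liftHom_liftBcAt_fst f (ζ ≫ f) ⟨ζ, rfl⟩ U l, Scheme.Hom.comp_apply]
    exact (hO _).1 h0
  show germ (ζ ≫ f) (equalizer (descMapA f F') (descMapB f φ)) U l σ = germ (ζ ≫ f) (equalizer (descMapA f F') (descMapB f φ)) U l σ'
  refine (exists_desc_stalk f φ (ζ ≫ f) _ (equalizes_ι f φ (ζ ≫ f) _)).unique rfl ?_
  rw [stMap_germ, stMap_germ]
  exact (germ_push_eq f (ζ ≫ f) F' U l _ _ O hl fun z hz => (hO z).2 hz).symm

include hφ hsp hbc in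
theorem surjective_descHom (ζ : Spec (CommRingCat.of Ω) ⟶ X') (t : St ζ F') :
    ∃ y : St (ζ ≫ f) (desc f φ), ev f _ ⟨ζ, rfl⟩ F' (stMap (ζ ≫ f) (equalizer.ι _ _) y) = t := by
  haveI := hbc
  obtain ⟨v, hv⟩ := (bijective_stMap_iso ζ (asIso (EtBC.baseChange0Sh f f (pullback.fst f f) (pullback.snd f f)
    (sqFlip f).w F'))).2 (stMap ζ (datumT f φ) t)
  obtain ⟨x, rfl⟩ := (bijective_us f ζ ((EtDesc.pushSh f).obj F')).2 v
  have hx : bcSt f ζ x = stMap ζ (datumT f φ) t :=
    (ConcreteCategory.comp_apply (unitStalk f ζ ((EtDesc.pushSh f).obj F'))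
      ((Scheme.pointSmallEtale ζ).presheafFiber.map _) x).trans hv
  have hrel := rel_of_bc f φ ζ t x hx
  suffices heq : stMap (ζ ≫ f) (descMapA f F') x = stMap (ζ ≫ f) (descMapB f φ) x by
    obtain ⟨y, hy, -⟩ := exists_desc_stalk f φ (ζ ≫ f) x heq
    exact ⟨y, by rw [hy]; exact rel_functional f φ rfl (hrel ⟨ζ, rfl⟩) (rel_refl f φ hφ t)⟩
  obtain ⟨U, l, s, rfl⟩ := exists_germ x
  obtain ⟨V₀, l₀, t₀, rfl⟩ := exists_germ t
  rw [stMap_germ] at hx
  replace hx := (bcStalk_germ_sh f f (pullback.fst f f) (pullback.snd f f) (sqFlip f) F' ζ U l s).symm.trans hx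
  let D₁ := (Scheme.pointSmallEtale ζ).fiber.elementsMk ((EtCoh.bc f).obj U) (liftBc f ζ U l)
  let D₂ := (Scheme.pointSmallEtale ζ).fiber.elementsMk V₀ l₀
  haveI := (Scheme.pointSmallEtale ζ).isCofiltered
  obtain ⟨⟨D, lD⟩, d₁, d₂, -⟩ := IsCofilteredOrEmpty.cone_objs D₁ D₂
  let a₁ : D ⟶ (EtCoh.bc f).obj U := d₁.1
  let a₂ : D ⟶ V₀ := d₂.1
  have ha₁ : (Scheme.pointSmallEtale ζ).fiber.map a₁ lD = liftBc f ζ U l := d₁.2
  have ha₂ : (Scheme.pointSmallEtale ζ).fiber.map a₂ lD = l₀ := d₂.2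
  let P := (EtDesc.pushSh (pullback.fst f f)).obj ((EtDesc.pullSh (pullback.snd f f)).obj F')
  let T : EtDesc.sect P ((EtCoh.bc f).obj U) :=
    ((EtDesc.pullSh (pullback.snd f f)).obj F').obj.map
      (kappa f f (pullback.fst f f) (pullback.snd f f) (sqFlip f) U).op
      (((EtDesc.adjSh (pullback.snd f f)).unit.app F').hom.app (op ((EtCoh.bc f).obj U)) s)
  have hx' : germ ζ P D lD (P.obj.map a₁.op T) = germ ζ P D lD (P.obj.map a₂.op ((datumT f φ).hom.app _ t₀)) := by
    rw [germ_res, germ_res, ha₁, ha₂]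
    exact hx
  obtain ⟨S, k, lS, hlS, hS⟩ := ((Scheme.pointSmallEtale ζ).toPresheafFiber_eq_iff' (P := P.obj) _ _ _ _).1 hx'
  have hpair : ∀ {Ω : Type u} [Field Ω] [IsAlgClosed Ω] (γ : Spec (CommRingCat.of Ω) ⟶ S.left)
      (l' : (Scheme.pointSmallEtale ((γ ≫ S.hom) ≫ f)).fiber.obj U)
      (hl' : liftHom _ l' = γ ≫ (k ≫ a₁).left ≫ bcFst f U) (ζ' : EtaleSplit.GPts f ((γ ≫ S.hom) ≫ f)),
      Rel f φ (γ ≫ S.hom) ζ'.1
        (germ (γ ≫ S.hom) F' V₀ ((Scheme.pointSmallEtale _).fiber.map (k ≫ a₂) (liftOf γ)) t₀)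
        (ev f _ ζ' F' (germ ((γ ≫ S.hom) ≫ f) ((EtDesc.pushSh f).obj F') U l' s)) := by
    intro Ω _ _ γ l' hl' ζ'
    refine rel_of_bc f φ _ _ _ ?_ ζ'
    refine (bcStalk_germ_sh f f (pullback.fst f f) (pullback.snd f f) (sqFlip f) F' _ U l' s).trans ?_
    rw [stMap_germ]
    have h0 := congrArg (germ (γ ≫ S.hom) P S (liftOf γ)) hS
    rw [← Functor.map_comp_apply, ← Functor.map_comp_apply, ← op_comp, ← op_comp, germ_res, germ_res] at h0
    refine Eq.trans ?_ h0
    refine congrArg (fun m => germ (γ ≫ S.hom) P _ m T) (fiber_bc_ext f _ ?_)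
    rw [liftHom_liftBc_fst, hl', liftHom_map, liftHom_liftOf, Category.assoc]
  let π := pullback.fst f f ≫ f
  let G := (EtDesc.pullSh (pullback.snd f f)).obj F'
  let L : Set ((EtCoh.bc π).obj U).left := agree G.obj (U := (EtCoh.bc π).obj U)
    ((descMapA f F').hom.app (op U) s) ((descMapB f φ).hom.app (op U) s)
  obtain ⟨O, hO, hOL⟩ := hsp U L (isOpen_agree _ _ _) S (k ≫ a₁) (fun y σ hσ => by
    obtain ⟨q, hq₁, hq₂⟩ := Scheme.Pullback.exists_preimage_pullback
      (f := (k ≫ a₁).left ≫ bcFst f U) (g := bcFst π U) σ y hσ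
    let γ := geomPtAlg q ≫ pullback.fst _ _
    let δ := geomPtAlg q ≫ pullback.snd ((k ≫ a₁).left ≫ bcFst f U) (bcFst π U)
    have hγδ : γ ≫ (k ≫ a₁).left ≫ bcFst f U = δ ≫ bcFst π U := by
      rw [Category.assoc, Category.assoc, pullback.condition]
    have hy : δ default = y := by rw [Scheme.Hom.comp_apply, geomPtAlg_default, hq₂]
    let l' : (Scheme.pointSmallEtale ((γ ≫ S.hom) ≫ f)).fiber.obj U :=
      Over.homMk (γ ≫ (k ≫ a₁).left ≫ bcFst f U) (by
        show (γ ≫ (k ≫ a₁).left ≫ bcFst f U) ≫ U.hom = (γ ≫ S.hom) ≫ f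
        rw [Category.assoc, Category.assoc, Category.assoc,
          show bcFst f U ≫ U.hom = ((EtCoh.bc f).obj U).hom ≫ f from pullback.condition,
          ← Category.assoc (k ≫ a₁).left]
        exact congrArg (γ ≫ ·) (congrArg (· ≫ f) (MorphismProperty.Over.w (k ≫ a₁))))
    have hη : (δ ≫ ((EtCoh.bc π).obj U).hom) ≫ π = (γ ≫ S.hom) ≫ f := by
      rw [← liftHom_comp _ l', show liftHom _ l' = δ ≫ bcFst π U from hγδ, Category.assoc, Category.assoc]
      exact congrArg (δ ≫ ·) pullback.condition.symm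
    refine hy ▸ (mem_agree_iff δ _ _).2 ?_
    rw [germAt_eq_ev π δ _ l' hη hγδ, germAt_eq_ev π δ _ l' hη hγδ, ← stMap_germ, ← stMap_germ]
    obtain ⟨hA, hB⟩ := ev_descMaps f φ _ (germ ((γ ≫ S.hom) ≫ f) ((EtDesc.pushSh f).obj F') U l' s)
      ⟨δ ≫ ((EtCoh.bc π).obj U).hom, hη⟩
    rw [hA, hB]
    have r₁ := hpair γ l' rfl ⟨(δ ≫ ((EtCoh.bc π).obj U).hom) ≫ pullback.fst f f, by rw [Category.assoc]; exact hη⟩
    have r₂ := hpair γ l' rfl ⟨(δ ≫ ((EtCoh.bc π).obj U).hom) ≫ pullback.snd f f, by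
      rw [Category.assoc, ← pullback.condition]; exact hη⟩
    have e : ((δ ≫ ((EtCoh.bc π).obj U).hom) ≫ pullback.fst f f) ≫ f =
        ((δ ≫ ((EtCoh.bc π).obj U).hom) ≫ pullback.snd f f) ≫ f := by
      simp only [Category.assoc, pullback.condition]
    obtain ⟨w, hw⟩ := rel_exists f φ e _
    have h₂ : (γ ≫ S.hom) ≫ f = ((δ ≫ ((EtCoh.bc π).obj U).hom) ≫ pullback.snd f f) ≫ f :=
      hη.symm.trans ((congrArg ((δ ≫ ((EtCoh.bc π).obj U).hom) ≫ ·) pullback.condition).trans
        (Category.assoc _ _ _).symm)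
    rw [rel_functional f φ h₂ (rel_trans f φ hφ (h₂.trans e.symm) e r₁ hw) r₂] at hw
    exact ((rel_iff f φ _ _ _).1 hw).symm) (liftHom ζ lS default)
  rw [stMap_germ, stMap_germ]
  refine germ_push_eq π (ζ ≫ f) G U l _ _ O ?_ hOL
  refine Eq.subst (motive := (· ∈ O)) ?_ hO
  have e : liftHom ζ lS ≫ (k ≫ a₁).left = liftHom ζ (liftBc f ζ U l) := by
    rw [← ha₁, ← liftHom_map, ← hlS, Functor.map_comp_apply]
  rw [← Scheme.Hom.comp_apply, ← Category.assoc, e, liftHom_liftBc_fst]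

include hφ hf hsp hbc in
/-- Effective descent along a universally submersive morphism with spreading and base change. -/
theorem isEffective_of_spreads : EtDesc.IsEffective f F' φ := by
  refine isEffective_of_bijective f φ hφ fun p => ?_
  let ζ := geomPtAlg p
  have hc : ∀ y, stMap ζ (descHom f φ) (us f ζ (desc f φ) y) =
      ev f (ζ ≫ f) ⟨ζ, rfl⟩ F' (stMap (ζ ≫ f) (equalizer.ι _ _) y) := fun y =>
    stMap_transpose f (equalizer.ι (descMapA f F') (descMapB f φ)) (ζ ≫ f) ⟨ζ, rfl⟩ y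
  refine (Function.Bijective.of_comp_iff _ (bijective_us f ζ (desc f φ))).1 ⟨fun a b hab => ?_, fun t => ?_⟩
  · exact injective_descHom f φ hf ζ a b ((hc a).symm.trans (Eq.trans hab (hc b)))
  · obtain ⟨y, hy⟩ := surjective_descHom f φ hφ hsp hbc ζ t
    exact ⟨y, (hc y).trans hy⟩

omit φ

theorem surjective_pullback_snd [Surjective f] (Y : Scheme.{u}) (g : Y ⟶ X) : Surjective (pullback.snd f g) :=
  MorphismProperty.pullback_snd (P := @Surjective) _ _ ‹_›

/-- Surjective universally open morphisms are universally submersive. -/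
theorem isUnivSubmersive_of_universallyOpen [Surjective f] [UniversallyOpen f] : EtDesc.IsUnivSubmersive f :=
  fun Y g => by
    haveI := surjective_pullback_snd f Y g
    haveI : UniversallyOpen (pullback.snd f g) := MorphismProperty.pullback_snd _ _ ‹_›
    exact ⟨(pullback.snd f g).surjective, (pullback.snd f g).isOpenMap.isQuotientMap
      (pullback.snd f g).continuous (pullback.snd f g).surjective⟩

/-- Effective descent along surjective quasi-compact quasi-separated universally locally 0-acyclic morphisms. -/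
theorem isEffective_of_acyclic {X' X : Scheme.{u}} (f : X' ⟶ X) [Surjective f] [QuasiCompact f] [QuasiSeparated f]
    (hg : EtAcyc.IsULocZeroAcyclic f) {F' : EtDesc.Sh X'}
    (φ : (EtDesc.pullSh (pullback.fst f f)).obj F' ≅ (EtDesc.pullSh (pullback.snd f f)).obj F')
    (hφ : EtDesc.IsCocycle F' φ) : EtDesc.IsEffective f F' φ := by
  haveI : QuasiCompact (pullback.fst f f ≫ f) := inferInstance
  refine isEffective_of_spreads f φ hφ (fun Y g => ?_)
    (spreads_of_generalizing _ f fun V => ZeroAcycLib.generalizingMap_of_acyclic _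
      (ZeroAcycLib.isULocZeroAcyclic_of_isPullback hg (IsPullback.of_hasPullback V.hom f).flip))
    (ZeroAcycLib.isIso_baseChange0Sh_of_acyclic f f (pullback.fst f f) (pullback.snd f f) (sqFlip f) hg F')
  haveI := surjective_pullback_snd f Y g
  haveI : QuasiCompact (pullback.snd f g) := MorphismProperty.pullback_snd _ _ ‹_›
  exact ⟨(pullback.snd f g).surjective, ZeroAcycLib.isQuotientMap_of_generalizing _
    (ZeroAcycLib.generalizingMap_of_acyclic _
      (ZeroAcycLib.isULocZeroAcyclic_of_isPullback hg (IsPullback.of_hasPullback f g)))⟩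

/-- Effective descent along surjective etale morphisms. -/
theorem isEffective_etale {X' X : Scheme.{u}} (f : X' ⟶ X) [Surjective f] [Etale f] {F' : EtDesc.Sh X'}
    (φ : (EtDesc.pullSh (pullback.fst f f)).obj F' ≅ (EtDesc.pullSh (pullback.snd f f)).obj F')
    (hφ : EtDesc.IsCocycle F' φ) : EtDesc.IsEffective f F' φ :=
  isEffective_of_spreads f φ hφ (isUnivSubmersive_of_universallyOpen f)
    (spreads_of_universallyOpen _ f inferInstance)
    (BCVertLib.isIso_baseChange0Sh_etale f f (pullback.fst f f) (pullback.snd f f) (sqFlip f) F')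

end Groth.Agent.DescentStalkLib

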