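import Groth.Agent.DescentStalkLib.OpenEffective
import Groth.Agent.S3047
import Groth.Agent.S3048

/-!
# Descent data read on stalks: restriction, the cocycle condition, effectivity, descent of morphisms
-/

set_option autoImplicit false
set_option linter.unusedSectionVars false
set_option linter.style.haveILetI false
set_option backward.isDefEq.respectTransparency false
set_option backward.isDefEq.respectTransparency.types false
set_option maxHeartbeats 1000000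

universe u

open CategoryTheory CategoryTheory.Limits AlgebraicGeometry Opposite
open Groth.Agent.EtPtsLib

noncomputable section

namespace Groth.Agent.DescentStalkLib

variable {X' X : Scheme.{u}} (f : X' ⟶ X) {F' : EtDesc.Sh X'}
  (φ : (EtDesc.pullSh (pullback.fst f f)).obj F' ≅ (EtDesc.pullSh (pullback.snd f f)).obj F')

/-- The descent datum pulled back along a map to the double fibre product. -/
def viaIso {T : Scheme.{u}} (g : T ⟶ EtDesc.X2 f) (b₁ b₂ : T ⟶ X') (w₁ : g ≫ pullback.fst f f = b₁)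
    (w₂ : g ≫ pullback.snd f f = b₂) : (EtDesc.pullSh b₁).obj F' ≅ (EtDesc.pullSh b₂).obj F' :=
  (EtDesc.pullVia g (pullback.fst f f) b₁ w₁ F').symm ≪≫ (EtDesc.pullSh g).mapIso φ ≪≫
    EtDesc.pullVia g (pullback.snd f f) b₂ w₂ F'

variable {Ω : Type u} [Field Ω] [IsAlgClosed Ω]

/-- An isomorphism evaluated at a pullback. -/
theorem stMap_pullVia_inv {T S W : Scheme.{u}} (g : T ⟶ S) (a : S ⟶ W) (b : T ⟶ W) (w : g ≫ a = b)
    (τ : Spec (CommRingCat.of Ω) ⟶ T) (G : EtDesc.Sh W) (x : St ((τ ≫ g) ≫ a) G)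
    (e : (τ ≫ g) ≫ a = τ ≫ b) :
    stMap τ (EtDesc.pullVia g a b w G).inv (us b τ G (tr e x)) = us g τ _ (us a (τ ≫ g) G x) := by
  apply (bijective_stMap_iso τ (EtDesc.pullVia g a b w G)).1
  rw [← stMap_comp, Iso.inv_hom_id, stMap_pullVia, stMap_id]

theorem stMap_viaIso {T : Scheme.{u}} (g : T ⟶ EtDesc.X2 f) (b₁ b₂ : T ⟶ X') (w₁ : g ≫ pullback.fst f f = b₁)
    (w₂ : g ≫ pullback.snd f f = b₂) (τ : Spec (CommRingCat.of Ω) ⟶ T)
    (t₁ : St (τ ≫ b₁) F') (t₂ : St (τ ≫ b₂) F') (r : Rel f φ (τ ≫ b₁) (τ ≫ b₂) t₁ t₂) :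
    stMap τ (viaIso f φ g b₁ b₂ w₁ w₂).hom (us b₁ τ F' t₁) = us b₂ τ F' t₂ := by
  have e₁ : (τ ≫ g) ≫ pullback.fst f f = τ ≫ b₁ := by rw [Category.assoc, w₁]
  have e₂ : (τ ≫ g) ≫ pullback.snd f f = τ ≫ b₂ := by rw [Category.assoc, w₂]
  have h₁ : stMap τ (EtDesc.pullVia g (pullback.fst f f) b₁ w₁ F').inv (us b₁ τ F' t₁) =
      us g τ _ (us (pullback.fst f f) (τ ≫ g) F' (tr e₁.symm t₁)) := by
    rw [← stMap_pullVia_inv g _ b₁ w₁ τ F' (tr e₁.symm t₁) e₁, tr_tr, tr_rfl]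
  refine (stMap_comp τ (EtDesc.pullVia g (pullback.fst f f) b₁ w₁ F').inv
    ((EtDesc.pullSh g).map φ.hom ≫ (EtDesc.pullVia g (pullback.snd f f) b₂ w₂ F').hom) _).trans ?_
  rw [h₁, stMap_comp, us_natural, r (τ ≫ g) e₁ e₂, stMap_pullVia, tr_tr, tr_rfl]

theorem rel_tr {ζ₁ ζ₂ ζ₁' ζ₂' : Spec (CommRingCat.of Ω) ⟶ X'} (e₁ : ζ₁ = ζ₁') (e₂ : ζ₂ = ζ₂') {t₁ : St ζ₁ F'}
    {t₂ : St ζ₂ F'} (r : Rel f φ ζ₁ ζ₂ t₁ t₂) : Rel f φ ζ₁' ζ₂' (tr e₁ t₁) (tr e₂ t₂) := by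
  subst e₁; subst e₂; exact r

section Restrict

variable {Z P : Scheme.{u}} (s : Z ⟶ X') (h : Z ⟶ P) (e : P ⟶ X) (w : s ≫ f = h ≫ e)

include w in
theorem restrict_comm : (pullback.fst h h ≫ s) ≫ f = (pullback.snd h h ≫ s) ≫ f := by
  rw [Category.assoc, Category.assoc, w, pullback.condition_assoc]

/-- The descent datum on the inverse image along `s`, over a factorisation `s ≫ f = h ≫ e`. -/
def restrictDatum :
    (EtDesc.pullSh (pullback.fst h h)).obj ((EtDesc.pullSh s).obj F') ≅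
      (EtDesc.pullSh (pullback.snd h h)).obj ((EtDesc.pullSh s).obj F') :=
  EtDesc.pullVia (pullback.fst h h) s (pullback.fst h h ≫ s) rfl F' ≪≫
    viaIso f φ (pullback.lift _ _ (restrict_comm f s h e w)) (pullback.fst h h ≫ s) (pullback.snd h h ≫ s)
      (pullback.lift_fst _ _ _) (pullback.lift_snd _ _ _) ≪≫
    (EtDesc.pullVia (pullback.snd h h) s (pullback.snd h h ≫ s) rfl F').symm

include w in
theorem restrict_eq {z₁ z₂ : Spec (CommRingCat.of Ω) ⟶ Z} (hz : z₁ ≫ h = z₂ ≫ h) :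
    (z₁ ≫ s) ≫ f = (z₂ ≫ s) ≫ f := by
  rw [Category.assoc, Category.assoc, w, reassoc_of% hz]

theorem rel_restrict_of {z₁ z₂ : Spec (CommRingCat.of Ω) ⟶ Z}
    {t₁ : St (z₁ ≫ s) F'} {t₂ : St (z₂ ≫ s) F'} (r : Rel f φ (z₁ ≫ s) (z₂ ≫ s) t₁ t₂) :
    Rel h (restrictDatum f φ s h e w) z₁ z₂ (us s z₁ F' t₁) (us s z₂ F' t₂) := by
  intro ω e₁ e₂
  subst e₁; subst e₂
  rw [tr_rfl, tr_rfl]
  refine (stMap_comp ω (EtDesc.pullVia (pullback.fst h h) s (pullback.fst h h ≫ s) rfl F').hom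
    ((viaIso f φ _ _ _ _ _).hom ≫ (EtDesc.pullVia (pullback.snd h h) s (pullback.snd h h ≫ s) rfl F').inv) _).trans ?_
  rw [stMap_pullVia, stMap_comp, stMap_viaIso f φ _ _ _ _ _ ω _ _ (rel_tr f φ (Category.assoc _ _ _) (Category.assoc _ _ _) r)]
  exact stMap_pullVia_inv _ _ _ _ _ _ _ _

variable (hφ : EtDesc.IsCocycle F' φ)

theorem rel_of_restrict {z₁ z₂ : Spec (CommRingCat.of Ω) ⟶ Z} (hz : z₁ ≫ h = z₂ ≫ h)
    {t₁ : St (z₁ ≫ s) F'} {t₂ : St (z₂ ≫ s) F'}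
    (r : Rel h (restrictDatum f φ s h e w) z₁ z₂ (us s z₁ F' t₁) (us s z₂ F' t₂)) :
    Rel f φ (z₁ ≫ s) (z₂ ≫ s) t₁ t₂ := by
  obtain ⟨v, hv⟩ := rel_exists f φ (restrict_eq f s h e w hz) t₁
  have h1 := (bijective_us s z₂ F').1 (rel_functional h _ hz (rel_restrict_of f φ s h e w hv) r)
  rwa [h1] at hv

end Restrict

/-- The cocycle condition follows from the transitivity of the relation of germs. -/
theorem isCocycle_of_rel
    (H : ∀ {Ω : Type u} [Field Ω] [IsAlgClosed Ω] (ζ₁ ζ₂ ζ₃ : Spec (CommRingCat.of Ω) ⟶ X'), ζ₁ ≫ f = ζ₂ ≫ f →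
      ζ₂ ≫ f = ζ₃ ≫ f → ∀ (t₁ : St ζ₁ F') (t₂ : St ζ₂ F') (t₃ : St ζ₃ F'),
      Rel f φ ζ₁ ζ₂ t₁ t₂ → Rel f φ ζ₂ ζ₃ t₂ t₃ → Rel f φ ζ₁ ζ₃ t₁ t₃) :
    EtDesc.IsCocycle F' φ := by
  refine hom_ext_st _ _ fun p z => ?_
  let τ := geomPtAlg p
  obtain ⟨t₁, rfl⟩ := (bijective_us (EtDesc.q1 (f := f)) τ F').2 z
  have h₁₂ : (τ ≫ EtDesc.q1 (f := f)) ≫ f = (τ ≫ EtDesc.q2) ≫ f := by
    refine (Category.assoc _ _ _).trans ((congrArg (τ ≫ ·) ?_).trans (Category.assoc _ _ _).symm)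
    show (EtDesc.p12 f ≫ pullback.fst f f) ≫ f = (EtDesc.p12 f ≫ pullback.snd f f) ≫ f
    rw [Category.assoc, Category.assoc, pullback.condition (f := f) (g := f)]
  have h₂₃ : (τ ≫ EtDesc.q2 (f := f)) ≫ f = (τ ≫ EtDesc.q3) ≫ f := by
    refine (Category.assoc _ _ _).trans ((congrArg (τ ≫ ·) ?_).trans (Category.assoc _ _ _).symm)
    show (EtDesc.p12 f ≫ pullback.snd f f) ≫ f = (EtDesc.p23 f ≫ pullback.snd f f) ≫ f
    rw [Category.assoc, Category.assoc, pullback.condition_assoc, pullback.condition]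
  obtain ⟨t₂, r₁₂⟩ := rel_exists f φ h₁₂ t₁
  obtain ⟨t₃, r₂₃⟩ := rel_exists f φ h₂₃ t₂
  rw [stMap_comp, stMap_pullIsoVia f φ _ _ _ rfl rfl τ t₁ t₂ r₁₂, stMap_pullIsoVia f φ _ _ _ EtDesc.p23_fst rfl τ t₂ t₃ r₂₃,
    stMap_pullIsoVia f φ _ _ _ EtDesc.p13_fst EtDesc.p13_snd τ t₁ t₃ (H _ _ _ h₁₂ h₂₃ _ _ _ r₁₂ r₂₃)]

theorem isCocycle_restrict {Z P : Scheme.{u}} (s : Z ⟶ X') (h : Z ⟶ P) (e : P ⟶ X) (w : s ≫ f = h ≫ e)
    (hφ : EtDesc.IsCocycle F' φ) : EtDesc.IsCocycle _ (restrictDatum f φ s h e w) := by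
  refine isCocycle_of_rel h _ fun {Ω} _ _ z₁ z₂ z₃ h₁₂ h₂₃ u₁ u₂ u₃ r₁₂ r₂₃ => ?_
  obtain ⟨t₁, rfl⟩ := (bijective_us s z₁ F').2 u₁
  obtain ⟨t₂, rfl⟩ := (bijective_us s z₂ F').2 u₂
  obtain ⟨t₃, rfl⟩ := (bijective_us s z₃ F').2 u₃
  exact rel_restrict_of f φ s h e w (rel_trans f φ hφ (restrict_eq f s h e w h₁₂) (restrict_eq f s h e w h₂₃)
    (rel_of_restrict f φ s h e w h₁₂ r₁₂) (rel_of_restrict f φ s h e w h₂₃ r₂₃))

/-- A map from an inverse image compatible with the datum, read on stalks. -/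
def Compat (G : EtDesc.Sh X) (α : (EtDesc.pullSh f).obj G ⟶ F') : Prop :=
  ∀ (Ω : Type u) [Field Ω] [IsAlgClosed Ω] (ζ₁ ζ₂ : Spec (CommRingCat.of Ω) ⟶ X') (e : ζ₁ ≫ f = ζ₂ ≫ f)
    (y : St (ζ₁ ≫ f) G), Rel f φ ζ₁ ζ₂ (stMap ζ₁ α (us f ζ₁ G y)) (stMap ζ₂ α (us f ζ₂ G (tr e y)))

theorem exists_compat (he : EtDesc.IsEffective f F' φ) :
    ∃ (G : EtDesc.Sh X) (ψ : (EtDesc.pullSh f).obj G ≅ F'), Compat f φ G ψ.hom := by
  obtain ⟨G, ψ, hψ⟩ := he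
  refine ⟨G, ψ, fun Ω _ _ ζ₁ ζ₂ e y ω e₁ e₂ => ?_⟩
  subst e₁; subst e₂
  rw [tr_rfl, tr_rfl]
  have hh : (EtDesc.pullSh (pullback.fst f f)).map ψ.hom ≫ φ.hom =
      (EtDesc.canIso f G).hom ≫ (EtDesc.pullSh (pullback.snd f f)).map ψ.hom := by
    rw [← hψ]
    simp
  rw [← us_natural, ← us_natural, ← stMap_comp, hh, stMap_comp, stMap_canIso f G ω y e]

/-- Effectivity from an isomorphism compatible at the points of a surjective cover of the double fibre product. -/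
theorem isEffective_of_compat_cover {T : Scheme.{u}} (r : T ⟶ EtDesc.X2 f) [Surjective r] (G : EtDesc.Sh X)
    (α : (EtDesc.pullSh f).obj G ⟶ F') [IsIso α]
    (hα : ∀ (Ω : Type u) [Field Ω] [IsAlgClosed Ω] (τ : Spec (CommRingCat.of Ω) ⟶ T)
      (e : ((τ ≫ r) ≫ pullback.fst f f) ≫ f = ((τ ≫ r) ≫ pullback.snd f f) ≫ f)
      (y : St (((τ ≫ r) ≫ pullback.fst f f) ≫ f) G),
      Rel f φ _ _ (stMap _ α (us f ((τ ≫ r) ≫ pullback.fst f f) G y))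
        (stMap _ α (us f ((τ ≫ r) ≫ pullback.snd f f) G (tr e y)))) :
    EtDesc.IsEffective f F' φ := by
  have hh : (EtDesc.canIso f G).hom ≫ (EtDesc.pullSh (pullback.snd f f)).map α =
      (EtDesc.pullSh (pullback.fst f f)).map α ≫ φ.hom := by
    haveI := (S3047.result r).1
    refine (EtDesc.pullSh r).map_injective (hom_ext_st _ _ fun p z => ?_)
    let τ := geomPtAlg p
    obtain ⟨z, rfl⟩ := (bijective_us r τ _).2 z
    obtain ⟨z, rfl⟩ := (bijective_us (pullback.fst f f) (τ ≫ r) _).2 z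
    obtain ⟨y, rfl⟩ := (bijective_us f ((τ ≫ r) ≫ pullback.fst f f) G).2 z
    have e : ((τ ≫ r) ≫ pullback.fst f f) ≫ f = ((τ ≫ r) ≫ pullback.snd f f) ≫ f := by
      simp only [Category.assoc, pullback.condition]
    rw [us_natural, us_natural, stMap_comp, stMap_comp, stMap_canIso f G (τ ≫ r) y e, us_natural, us_natural]
    exact congrArg (us r τ _) ((hα _ τ e y) (τ ≫ r) rfl rfl).symm
  refine ⟨G, asIso α, Iso.ext ?_⟩
  simp only [Iso.trans_hom, Iso.symm_hom, Functor.mapIso_inv, Functor.mapIso_hom, asIso_hom, asIso_inv, Functor.map_inv]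
  rw [IsIso.inv_comp_eq, hh]

/-- The cocycle condition checked at the points of a surjective cover of the triple fibre product. -/
theorem isCocycle_of_rel_cover {T : Scheme.{u}} (r : T ⟶ EtDesc.X3 f) [Surjective r]
    (H : ∀ {Ω : Type u} [Field Ω] [IsAlgClosed Ω] (τ : Spec (CommRingCat.of Ω) ⟶ T)
      (t₁ : St ((τ ≫ r) ≫ EtDesc.q1) F') (t₂ : St ((τ ≫ r) ≫ EtDesc.q2) F') (t₃ : St ((τ ≫ r) ≫ EtDesc.q3) F'),
      Rel f φ _ _ t₁ t₂ → Rel f φ _ _ t₂ t₃ → Rel f φ _ _ t₁ t₃) : EtDesc.IsCocycle F' φ := by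
  haveI := (S3047.result r).1
  refine (EtDesc.pullSh r).map_injective (hom_ext_st _ _ fun p z => ?_)
  obtain ⟨z, rfl⟩ := (bijective_us r (geomPtAlg p) _).2 z
  let τ := geomPtAlg p ≫ r
  obtain ⟨t₁, rfl⟩ := (bijective_us (EtDesc.q1 (f := f)) τ F').2 z
  have h₁₂ : (τ ≫ EtDesc.q1 (f := f)) ≫ f = (τ ≫ EtDesc.q2) ≫ f := by
    refine (Category.assoc _ _ _).trans ((congrArg (τ ≫ ·) ?_).trans (Category.assoc _ _ _).symm)
    show (EtDesc.p12 f ≫ pullback.fst f f) ≫ f = (EtDesc.p12 f ≫ pullback.snd f f) ≫ f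
    rw [Category.assoc, Category.assoc, pullback.condition (f := f) (g := f)]
  have h₂₃ : (τ ≫ EtDesc.q2 (f := f)) ≫ f = (τ ≫ EtDesc.q3) ≫ f := by
    refine (Category.assoc _ _ _).trans ((congrArg (τ ≫ ·) ?_).trans (Category.assoc _ _ _).symm)
    show (EtDesc.p12 f ≫ pullback.snd f f) ≫ f = (EtDesc.p23 f ≫ pullback.snd f f) ≫ f
    rw [Category.assoc, Category.assoc, pullback.condition_assoc, pullback.condition]
  obtain ⟨t₂, r₁₂⟩ := rel_exists f φ h₁₂ t₁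
  obtain ⟨t₃, r₂₃⟩ := rel_exists f φ h₂₃ t₂
  rw [us_natural, us_natural, stMap_comp, stMap_pullIsoVia f φ _ _ _ rfl rfl τ t₁ t₂ r₁₂,
    stMap_pullIsoVia f φ _ _ _ EtDesc.p23_fst rfl τ t₂ t₃ r₂₃,
    stMap_pullIsoVia f φ _ _ _ EtDesc.p13_fst EtDesc.p13_snd τ t₁ t₃ (H _ _ _ _ r₁₂ r₂₃)]

theorem rel_symm (hφ : EtDesc.IsCocycle F' φ) {ζ₁ ζ₂ : Spec (CommRingCat.of Ω) ⟶ X'} (e : ζ₁ ≫ f = ζ₂ ≫ f)
    {t₁ : St ζ₁ F'} {t₂ : St ζ₂ F'} (r : Rel f φ ζ₁ ζ₂ t₁ t₂) : Rel f φ ζ₂ ζ₁ t₂ t₁ := by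
  obtain ⟨v, hv⟩ := rel_exists f φ e.symm t₂
  rwa [← rel_functional f φ rfl (rel_trans f φ hφ e e.symm r hv) (rel_refl f φ hφ t₁)]

/-- Descent of morphisms along a universally submersive morphism, read on stalks. -/
theorem exists_descended_hom {W S : Scheme.{u}} (p : W ⟶ S) (hp : EtDesc.IsUnivSubmersive p) (F G : EtDesc.Sh S)
    (a : (EtDesc.pullSh p).obj F ⟶ (EtDesc.pullSh p).obj G)
    (H : ∀ (Ω : Type u) [Field Ω] [IsAlgClosed Ω] (ζ₁ ζ₂ : Spec (CommRingCat.of Ω) ⟶ W) (e : ζ₁ ≫ p = ζ₂ ≫ p)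
      (y : St (ζ₁ ≫ p) F) (z : St (ζ₁ ≫ p) G), stMap ζ₁ a (us p ζ₁ F y) = us p ζ₁ G z →
        stMap ζ₂ a (us p ζ₂ F (tr e y)) = us p ζ₂ G (tr e z)) :
    ∃ b : F ⟶ G, (EtDesc.pullSh p).map b = a := by
  refine (S3048.result p hp F G a (hom_ext_st _ _ fun q x => ?_)).exists
  let ω := geomPtAlg q
  obtain ⟨x, rfl⟩ := (bijective_us (pullback.fst p p) ω _).2 x
  obtain ⟨y, rfl⟩ := (bijective_us p (ω ≫ pullback.fst p p) F).2 x
  have e : (ω ≫ pullback.fst p p) ≫ p = (ω ≫ pullback.snd p p) ≫ p := by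
    rw [Category.assoc, Category.assoc, pullback.condition]
  obtain ⟨z, hz⟩ := (bijective_us p (ω ≫ pullback.fst p p) G).2 (stMap _ a (us p _ F y))
  rw [stMap_comp, stMap_comp, stMap_canIso p F ω y e, us_natural, us_natural, H _ _ _ e y z hz.symm, ← hz,
    stMap_canIso p G ω z e]

end Groth.Agent.DescentStalkLib
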